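import Mathlib.Algebra.Category.Grp.Basic
import Mathlib.Algebra.Category.Grp.EpiMono
import Mathlib.CategoryTheory.Limits.FunctorCategory.EpiMono

/-!
# Lifting morphisms and isomorphisms to sub-presheaves of abelian groups
-/

set_option autoImplicit false
universe w v u

namespace Groth.Agent.Lib.Helper23.Shriek

open CategoryTheory

variable {C : Type u} [Category.{v} C] {P' P Q' Q : C ⥤ AddCommGrpCat.{w}}

lemma mono_of_injective_app (ι : P' ⟶ P) (h : ∀ W, Function.Injective (ι.app W)) : Mono ι := by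
  haveI : ∀ W, Mono (ι.app W) := fun W => (AddCommGrpCat.mono_iff_injective _).2 (h W)
  exact NatTrans.mono_of_mono_app ι

/-- lifting a morphism to sub-presheaves -/
theorem exists_lift_sub (ιP : P' ⟶ P) (ιQ : Q' ⟶ Q) (hQ : ∀ W, Function.Injective (ιQ.app W))
    (φ : P ⟶ Q) (h : ∀ W (x : P'.obj W), φ.app W (ιP.app W x) ∈ Set.range (ιQ.app W)) :
    ∃ φ' : P' ⟶ Q', φ' ≫ ιQ = ιP ≫ φ := by
  choose a ha using h
  have hadd : ∀ W (x y : P'.obj W), a W (x + y) = a W x + a W y := by
    intro W x y
    apply hQ W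
    rw [ha, map_add, map_add, map_add, ha, ha]
  let φ' : P' ⟶ Q' :=
    { app := fun W => AddCommGrpCat.ofHom (AddMonoidHom.mk' (a W) (hadd W))
      naturality := by
        intro W W' k
        ext x
        apply hQ W'
        change ιQ.app W' (a W' (P'.map k x)) = ιQ.app W' (Q'.map k (a W x))
        rw [ha]
        have h1 := congrArg (fun m => m (a W x)) (congrArg AddCommGrpCat.Hom.hom (ιQ.naturality k))
        have h2 := congrArg (fun m => m x) (congrArg AddCommGrpCat.Hom.hom (ιP.naturality k))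
        have h3 := congrArg (fun m => m (ιP.app W x))
          (congrArg AddCommGrpCat.Hom.hom (φ.naturality k))
        simp only [AddCommGrpCat.hom_comp, AddMonoidHom.coe_comp, Function.comp_apply] at h1 h2 h3
        rw [h1, ha, h2, h3] }
  refine ⟨φ', ?_⟩
  ext W x
  exact ha W x

/-- an isomorphism of presheaves matching two sub-presheaves induces an isomorphism between
them -/
theorem exists_subIso (ιP : P' ⟶ P) (ιQ : Q' ⟶ Q) (hP : ∀ W, Function.Injective (ιP.app W))
    (hQ : ∀ W, Function.Injective (ιQ.app W)) (θ : P ≅ Q)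
    (h : ∀ W (x : P.obj W), x ∈ Set.range (ιP.app W) ↔ θ.hom.app W x ∈ Set.range (ιQ.app W)) :
    ∃ θ' : P' ≅ Q', θ'.hom ≫ ιQ = ιP ≫ θ.hom := by
  haveI := mono_of_injective_app ιP hP
  haveI := mono_of_injective_app ιQ hQ
  obtain ⟨a, ha⟩ := exists_lift_sub ιP ιQ hQ θ.hom (fun W x => (h W _).1 ⟨x, rfl⟩)
  obtain ⟨b, hb⟩ := exists_lift_sub ιQ ιP hP θ.inv (fun W y => by
    rw [h W]
    have : θ.hom.app W (θ.inv.app W (ιQ.app W y)) = ιQ.app W y := by
      have := congrArg (fun m => m (ιQ.app W y))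
        (congrArg AddCommGrpCat.Hom.hom (congrArg (fun t => t.app W) θ.inv_hom_id))
      simpa using this
    rw [this]
    exact ⟨y, rfl⟩)
  refine ⟨⟨a, b, ?_, ?_⟩, ha⟩
  · rw [← cancel_mono ιP, Category.assoc, hb, ← Category.assoc, ha, Category.assoc,
      θ.hom_inv_id, Category.comp_id, Category.id_comp]
  · rw [← cancel_mono ιQ, Category.assoc, ha, ← Category.assoc, hb, Category.assoc,
      θ.inv_hom_id, Category.comp_id, Category.id_comp]

end Groth.Agent.Lib.Helper23.Shriek
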