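import Groth.Agent.Lib.Helper23.Shriek.SuppL
import Groth.Agent.Lib.Helper23.Shriek.SubIso

/-!
# Direct images with proper support compose
-/

set_option autoImplicit false
universe u

namespace Groth.Agent.Lib.Helper23.Shriek

open CategoryTheory CategoryTheory.Limits AlgebraicGeometry Opposite EtShriek
open Groth.Agent.Lib.Helper23 Groth.Agent.Lib.Helper9.ProperOver

variable {X Y Z : Scheme.{u}} (f : X ⟶ Y) (g : Y ⟶ Z)

set_option backward.isDefEq.respectTransparency.types false in
instance isSeparated_prV [IsSeparated g] (W : Z.Etale) : IsSeparated (prV g W) :=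
  MorphismProperty.pullback_fst (P := @IsSeparated) W.hom g inferInstance

/-- comparison of the base change functors -/
noncomputable def bcComp : EtCoh.bc (f ≫ g) ≅ EtCoh.bc g ⋙ EtCoh.bc f :=
  MorphismProperty.Over.pullbackComp (P := EtCoh.etaleMP) (Q := ⊤) f g

set_option backward.isDefEq.respectTransparency.types false in
lemma bcComp_hom_left_prV (W : Z.Etale) :
    ((bcComp f g).hom.app W).left ≫ prV f ((EtCoh.bc g).obj W) ≫ prV g W = prV (f ≫ g) W :=
  MorphismProperty.Over.pullbackComp_left_fst_fst (P := EtCoh.etaleMP) (Q := ⊤) f g W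

lemma bcComp_inv_left_prV (W : Z.Etale) :
    ((bcComp f g).inv.app W).left ≫ prV (f ≫ g) W = prV f ((EtCoh.bc g).obj W) ≫ prV g W := by
  rw [← bcComp_hom_left_prV f g W, ← Category.assoc]
  have : ((bcComp f g).inv.app W).left ≫ ((bcComp f g).hom.app W).left = 𝟙 _ := by
    have h := (bcComp f g).inv_hom_id_app W
    exact congrArg (fun k => k.left) h
  rw [this, Category.id_comp]

/-- the isomorphism of schemes underlying `bcComp` -/
noncomputable def bcCompLeft (W : Z.Etale) :
    ((EtCoh.bc f).obj ((EtCoh.bc g).obj W)).left ≅ ((EtCoh.bc (f ≫ g)).obj W).left where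
  hom := ((bcComp f g).inv.app W).left
  inv := ((bcComp f g).hom.app W).left
  hom_inv_id := congrArg (fun k => k.left) ((bcComp f g).inv_hom_id_app W)
  inv_hom_id := congrArg (fun k => k.left) ((bcComp f g).hom_inv_id_app W)

variable [LocallyOfFiniteType f] [LocallyOfFiniteType g] [IsSeparated g] (F : EtCoh.Ab X)

instance : LocallyOfFiniteType (f ≫ g) := inferInstance

/-- the key membership statement: a section has proper support over `W` iff it has proper
support over `Y_W` and, as a section of `f_! F`, proper support over `W` -/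
theorem mem_comp_iff (W : Z.Etale) (s : EtCoh.sect F ((EtCoh.bc (f ≫ g)).obj W)) :
    s ∈ shriekSubgroup (f ≫ g) F W ↔
      ∃ h : F.obj.map ((bcComp f g).inv.app W).op s ∈ shriekSubgroup f F ((EtCoh.bc g).obj W),
        ((⟨_, h⟩ : shriekSubgroup f F ((EtCoh.bc g).obj W)) :
          EtCoh.sect ((L f).obj F) ((EtCoh.bc g).obj W)) ∈
          shriekSubgroup g ((L f).obj F) W := by
  set T := sectSupp F ((EtCoh.bc (f ≫ g)).obj W) s with hT
  have hTc : IsClosed T := isClosed_sectSupp F _ s
  set s' := F.obj.map ((bcComp f g).inv.app W).op s with hs'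
  set p := prV f ((EtCoh.bc g).obj W) with hp
  set q := prV g W with hq
  have hsupp : sectSupp F _ s' = (bcCompLeft f g W).hom.base ⁻¹' T := sectSupp_map F _ s
  have hT'c : IsClosed ((bcCompLeft f g W).hom.base ⁻¹' T) :=
    hTc.preimage (bcCompLeft f g W).hom.continuous
  have hw : (bcCompLeft f g W).hom ≫ prV (f ≫ g) W = p ≫ q := bcComp_inv_left_prV f g W
  have h1 : ClSub.IsProperOver (prV (f ≫ g) W) T ↔
      ClSub.IsProperOver (p ≫ q) ((bcCompLeft f g W).hom.base ⁻¹' T) := by
    constructor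
    · intro h
      exact isProperOver_of_iso (bcCompLeft f g W) (p ≫ q) (prV (f ≫ g) W) hw T h
    · intro h
      have hw' : (bcCompLeft f g W).symm.hom ≫ (p ≫ q) = prV (f ≫ g) W := by
        rw [← hw, ← Category.assoc]
        change ((bcCompLeft f g W).inv ≫ (bcCompLeft f g W).hom) ≫ _ = _
        rw [Iso.inv_hom_id, Category.id_comp]
      have := isProperOver_of_iso (bcCompLeft f g W).symm (prV (f ≫ g) W) (p ≫ q) hw' _ h
      have he : (bcCompLeft f g W).symm.hom.base ⁻¹' ((bcCompLeft f g W).hom.base ⁻¹' T) = T := by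
        ext x
        simp only [Set.mem_preimage]
        have : (bcCompLeft f g W).hom.base ((bcCompLeft f g W).symm.hom.base x) = x := by
          change ((bcCompLeft f g W).inv ≫ (bcCompLeft f g W).hom).base x = x
          rw [Iso.inv_hom_id]; rfl
        rw [this]
      rwa [he] at this
  rw [mem_shriekSubgroup_iff', h1, isProperOver_comp_iff p q _ hT'c, ← hsupp]
  constructor
  · rintro ⟨ha, hb⟩
    have hmem : s' ∈ shriekSubgroup f F ((EtCoh.bc g).obj W) :=
      (mem_shriekSubgroup_iff' f F _ s').2 ha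
    refine ⟨hmem, (mem_shriekSubgroup_iff' g ((L f).obj F) W _).2 ?_⟩
    rw [sectSupp_L f F _ ⟨s', hmem⟩]
    exact hb
  · rintro ⟨hmem, hb⟩
    refine ⟨(mem_shriekSubgroup_iff' f F _ s').1 hmem, ?_⟩
    have hb' := (mem_shriekSubgroup_iff' g ((L f).obj F) W _).1 hb
    rw [sectSupp_L f F _ ⟨s', hmem⟩] at hb'
    exact hb'

/-! ### the isomorphism -/

/-- the ambient isomorphism `(f ≫ g)_* F ≅ g_* f_* F` of presheaves -/
noncomputable def ambIso :
    (EtCoh.bc (f ≫ g)).op ⋙ F.obj ≅ (EtCoh.bc g).op ⋙ (EtCoh.bc f).op ⋙ F.obj :=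
  Functor.isoWhiskerRight (NatIso.op (bcComp f g)).symm F.obj

lemma ambIso_hom_app (W : Z.Etale) (x : F.obj.obj (op ((EtCoh.bc (f ≫ g)).obj W))) :
    (ambIso f g F).hom.app (op W) x = F.obj.map ((bcComp f g).inv.app W).op x := rfl

/-- the inclusion of the iterated proper-support presheaf into `g_* f_* F` -/
noncomputable def iterι :
    lowerShriekPre g ((L f).obj F) ⟶ (EtCoh.bc g).op ⋙ (EtCoh.bc f).op ⋙ F.obj :=
  lowerShriekPreι g ((L f).obj F) ≫ Functor.whiskerLeft (EtCoh.bc g).op (lowerShriekPreι f F)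

lemma iterι_app (W : Z.Etale) (t : shriekSubgroup g ((L f).obj F) W) :
    (iterι f g F).app (op W) t = ((t.1 : shriekSubgroup f F ((EtCoh.bc g).obj W)).1) := rfl

lemma iterι_injective (W : Z.Etaleᵒᵖ) : Function.Injective ((iterι f g F).app W) := by
  intro t t' h
  apply Subtype.ext
  apply Subtype.ext
  exact h

lemma lowerShriekPreι_injective {X Y : Scheme.{u}} (f : X ⟶ Y) (F : EtCoh.Ab X)
    (W : Y.Etaleᵒᵖ) : Function.Injective ((lowerShriekPreι f F).app W) := by
  intro t t' h
  apply Subtype.ext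
  exact h

theorem exists_compIso : ∃ θ : lowerShriekPre (f ≫ g) F ≅ lowerShriekPre g ((L f).obj F),
    θ.hom ≫ iterι f g F = lowerShriekPreι (f ≫ g) F ≫ (ambIso f g F).hom := by
  refine exists_subIso (lowerShriekPreι (f ≫ g) F) (iterι f g F)
    (lowerShriekPreι_injective (f ≫ g) F) (iterι_injective f g F) (ambIso f g F) ?_
  intro W x
  obtain ⟨W⟩ := W
  constructor
  · rintro ⟨t, rfl⟩
    obtain ⟨h1, h2⟩ := (mem_comp_iff f g F W t.1).1 t.2
    exact ⟨⟨⟨_, h1⟩, h2⟩, rfl⟩
  · rintro ⟨t, ht⟩
    have hx : (x : EtCoh.sect F ((EtCoh.bc (f ≫ g)).obj W)) ∈ shriekSubgroup (f ≫ g) F W := by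
      refine (mem_comp_iff f g F W x).2 ?_
      have e : F.obj.map ((bcComp f g).inv.app W).op x = t.1.1 := ht.symm
      have h1 : F.obj.map ((bcComp f g).inv.app W).op x ∈
          shriekSubgroup f F ((EtCoh.bc g).obj W) := by rw [e]; exact t.1.2
      refine ⟨h1, ?_⟩
      have e2 : (⟨_, h1⟩ : shriekSubgroup f F ((EtCoh.bc g).obj W)) = t.1 := Subtype.ext e
      rw [e2]
      exact t.2
    exact ⟨⟨x, hx⟩, rfl⟩

/-- the isomorphism of presheaves `(f ≫ g)_! F ≅ g_! f_! F` -/
noncomputable def compPreIso : lowerShriekPre (f ≫ g) F ≅ lowerShriekPre g ((L f).obj F) :=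
  (exists_compIso f g F).choose

lemma compPreIso_spec :
    (compPreIso f g F).hom ≫ iterι f g F = lowerShriekPreι (f ≫ g) F ≫ (ambIso f g F).hom :=
  (exists_compIso f g F).choose_spec

/-- the isomorphism of sheaves `(f ≫ g)_! F ≅ g_! f_! F` -/
noncomputable def compObjIso : (L (f ≫ g)).obj F ≅ (L g).obj ((L f).obj F) where
  hom := ⟨(compPreIso f g F).hom⟩
  inv := ⟨(compPreIso f g F).inv⟩
  hom_inv_id := by
    apply Sheaf.hom_ext
    exact (compPreIso f g F).hom_inv_id
  inv_hom_id := by
    apply Sheaf.hom_ext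
    exact (compPreIso f g F).inv_hom_id

lemma compPreIso_spec_apply (W : Z.Etaleᵒᵖ) (x : (lowerShriekPre (f ≫ g) F).obj W) :
    (iterι f g F).app W ((compPreIso f g F).hom.app W x) =
      (ambIso f g F).hom.app W ((lowerShriekPreι (f ≫ g) F).app W x) := by
  have := congrArg (fun m => m x)
    (congrArg AddCommGrpCat.Hom.hom (congrArg (fun t => t.app W) (compPreIso_spec f g F)))
  simp only [NatTrans.comp_app, AddCommGrpCat.hom_comp, AddMonoidHom.coe_comp,
    Function.comp_apply] at this
  exact this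

variable {F} in
lemma ambIso_naturality_apply {G : EtCoh.Ab X} (α : F ⟶ G) (W : Z.Etaleᵒᵖ)
    (z : F.obj.obj (op ((EtCoh.bc (f ≫ g)).obj W.unop))) :
    (ambIso f g G).hom.app W (α.hom.app _ z) = α.hom.app _ ((ambIso f g F).hom.app W z) := by
  obtain ⟨W⟩ := W
  have := congrArg (fun m => m z)
    (congrArg AddCommGrpCat.Hom.hom (α.hom.naturality ((bcComp f g).inv.app W).op))
  simp only [AddCommGrpCat.hom_comp, AddMonoidHom.coe_comp, Function.comp_apply] at this
  exact this.symm

/-- direct images with proper support compose -/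
noncomputable def compIso : L (f ≫ g) ≅ L f ⋙ L g :=
  NatIso.ofComponents (compObjIso f g) (by
    intro F G α
    apply Sheaf.hom_ext
    change (lowerShriekPreFunctor (f ≫ g)).map α ≫ (compPreIso f g G).hom =
      (compPreIso f g F).hom ≫ (lowerShriekPreFunctor g).map ((L f).map α)
    ext W x
    apply iterι_injective f g G W
    refine (compPreIso_spec_apply f g G W _).trans ?_
    refine (ambIso_naturality_apply f g α W _).trans ?_
    exact congrArg (α.hom.app _) (compPreIso_spec_apply f g F W x).symm)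

end Groth.Agent.Lib.Helper23.Shriek
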