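import Groth.Agent.Lib.Helper23.Shriek.Proper

/-!
# Compatibility and uniqueness of the composition isomorphism for `f_!`
-/

set_option autoImplicit false
universe u

namespace Groth.Agent.Lib.Helper23.Shriek

open CategoryTheory CategoryTheory.Limits AlgebraicGeometry Opposite EtShriek
open Groth.Agent.Lib.Helper23 Groth.Agent.Lib.Helper9.ProperOver

section ToPush

variable {X Y : Scheme.{u}} (f : X ⟶ Y) [LocallyOfFiniteType f] (F : EtCoh.Ab X)

lemma LIso_hom_app :
    (LIso f).hom.app F =
      (sheafificationAdjunction Y.smallEtaleTopology AddCommGrpCat.{u+1}).counit.app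
        ((L f).obj F) := by
  have h : (LIso f).hom.app F = (sheafificationIso ((L f).obj F)).inv := by
    simp only [LIso, Iso.trans_hom, Functor.isoWhiskerRight_hom, NatTrans.comp_app,
      Functor.whiskerRight_app, NatIso.ofComponents_hom_app, Iso.refl_hom,
      Functor.associator_hom_app, Functor.isoWhiskerLeft_hom, Functor.whiskerLeft_app,
      Iso.symm_hom, Functor.rightUnitor_hom_app, Category.comp_id, Category.id_comp]
    erw [CategoryTheory.Functor.map_id, Category.id_comp]
    rfl
  rw [h]
  apply Sheaf.hom_ext
  rw [← cancel_epi (sheafificationIso ((L f).obj F)).hom.hom]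
  change ((sheafificationIso ((L f).obj F)).hom ≫ (sheafificationIso ((L f).obj F)).inv).hom = _
  rw [Iso.hom_inv_id]
  change 𝟙 _ = toSheafify _ _ ≫ _
  exact ((sheafificationAdjunction Y.smallEtaleTopology
    AddCommGrpCat.{u+1}).right_triangle_components ((L f).obj F)).symm

/-- `f_! F → f_* F` through the sheaf of sections with proper support -/
lemma lowerShriekToPush_eq :
    lowerShriekToPush f F = (LIso f).hom.app F ≫ (ιL f).app F := by
  rw [LIso_hom_app]
  unfold lowerShriekToPush
  rw [Adjunction.homEquiv_counit]
  exact ((sheafificationAdjunction Y.smallEtaleTopology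
    AddCommGrpCat.{u+1}).counit.naturality ((ιL f).app F))

end ToPush

section Compat

variable {X Y Z : Scheme.{u}} (h : X ⟶ Y) (g : Y ⟶ Z) [LocallyOfFiniteType h]
  [LocallyOfFiniteType g] [IsSeparated g] (F : EtCoh.Ab X)

/-- the iterated inclusion as a morphism of sheaves -/
noncomputable def iterιSh : (L g).obj ((L h).obj F) ⟶ (EtCoh.push g).obj ((EtCoh.push h).obj F) :=
  (L g).map ((ιL h).app F) ≫ (ιL g).app ((EtCoh.push h).obj F)

lemma iterιSh_hom : (iterιSh h g F).hom = iterι h g F := by
  change (lowerShriekPreFunctor g).map ((ιL h).app F) ≫ lowerShriekPreι g ((EtCoh.push h).obj F) = _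
  rw [lowerShriekPreι_naturality]
  rfl

instance : Mono (iterιSh h g F) := by
  haveI : Mono (iterιSh h g F).hom := by
    rw [iterιSh_hom]
    exact mono_of_injective_app _ (iterι_injective h g F)
  exact (sheafToPresheaf _ _).mono_of_mono_map (inferInstanceAs (Mono (iterιSh h g F).hom))

set_option backward.isDefEq.respectTransparency.types false in
lemma pushComp_inv_app_hom :
    ((EtCoh.pushComp g h).inv.app F).hom = (ambIso h g F).hom := by
  ext W x
  rfl

/-- the composition isomorphism is compatible with the inclusions into direct images -/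
lemma compIso_compat :
    (compIso h g).hom.app F ≫ iterιSh h g F =
      (ιL (h ≫ g)).app F ≫ (EtCoh.pushComp g h).inv.app F := by
  apply Sheaf.hom_ext
  change (compPreIso h g F).hom ≫ (iterιSh h g F).hom =
    lowerShriekPreι (h ≫ g) F ≫ ((EtCoh.pushComp g h).inv.app F).hom
  rw [iterιSh_hom, pushComp_inv_app_hom]
  exact compPreIso_spec h g F

/-- the composition isomorphism for `lowerShriek` -/
noncomputable def compIso' :
    lowerShriek (h ≫ g) ≅ lowerShriek h ⋙ lowerShriek g :=
  LIso (h ≫ g) ≪≫ compIso h g ≪≫
    (Functor.isoWhiskerRight (LIso h).symm (L g) ≪≫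
      Functor.isoWhiskerLeft (lowerShriek h) (LIso g).symm)

/-- the mono used to pin down the composition isomorphism -/
lemma toPush_toPush_eq :
    (lowerShriek g).map (lowerShriekToPush h F) ≫ lowerShriekToPush g ((EtCoh.push h).obj F) =
      (LIso g).hom.app ((lowerShriek h).obj F) ≫ (L g).map ((LIso h).hom.app F) ≫
        iterιSh h g F := by
  rw [lowerShriekToPush_eq g, lowerShriekToPush_eq h]
  unfold iterιSh
  rw [← Category.assoc, (LIso g).hom.naturality, CategoryTheory.Functor.map_comp]
  simp only [Category.assoc]

instance : Mono ((lowerShriek g).map (lowerShriekToPush h F) ≫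
    lowerShriekToPush g ((EtCoh.push h).obj F)) := by
  rw [toPush_toPush_eq]
  infer_instance

lemma compIso'_compat :
    (compIso' h g).hom.app F ≫ (lowerShriek g).map (lowerShriekToPush h F) ≫
        lowerShriekToPush g ((EtCoh.push h).obj F) =
      lowerShriekToPush (h ≫ g) F ≫ (EtCoh.pushComp g h).inv.app F := by
  rw [toPush_toPush_eq, lowerShriekToPush_eq (h ≫ g), Category.assoc, ← compIso_compat]
  simp only [compIso', Iso.trans_hom, NatTrans.comp_app, Functor.isoWhiskerRight_hom,
    Functor.whiskerRight_app, Functor.isoWhiskerLeft_hom, Functor.whiskerLeft_app, Iso.symm_hom,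
    Category.assoc]
  congr 2
  rw [← Category.assoc ((LIso g).inv.app _), ← NatTrans.comp_app, Iso.inv_hom_id,
    NatTrans.id_app, Category.id_comp, ← Category.assoc, ← CategoryTheory.Functor.map_comp,
    ← NatTrans.comp_app, Iso.inv_hom_id, NatTrans.id_app, CategoryTheory.Functor.map_id]
  exact Category.id_comp _

theorem existsUnique_compIso :
    ∃! φ : lowerShriek (h ≫ g) ≅ lowerShriek h ⋙ lowerShriek g,
      ∀ F : EtCoh.Ab X,
        φ.hom.app F ≫ (lowerShriek g).map (lowerShriekToPush h F) ≫
            lowerShriekToPush g ((EtCoh.push h).obj F) =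
          lowerShriekToPush (h ≫ g) F ≫ (EtCoh.pushComp g h).inv.app F := by
  refine ⟨compIso' h g, fun F => compIso'_compat h g F, ?_⟩
  intro φ hφ
  apply Iso.ext
  apply NatTrans.ext
  funext F
  rw [← cancel_mono ((lowerShriek g).map (lowerShriekToPush h F) ≫
    lowerShriekToPush g ((EtCoh.push h).obj F)), hφ F, compIso'_compat]

end Compat

end Groth.Agent.Lib.Helper23.Shriek
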