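import Mathlib.Algebra.Category.Grp.Basic
import Mathlib.Algebra.BigOperators.Finprod
import Mathlib.CategoryTheory.Limits.Shapes.Products

/-!
# Recognising a coproduct of abelian groups from a jointly injective family of "coordinates"
-/

set_option autoImplicit false
universe v w

namespace Groth.Agent.Lib.Helper23.Shriek

open CategoryTheory CategoryTheory.Limits

section

variable {ι : Type v} (S : AddCommGrpCat.{w}) (M : ι → AddCommGrpCat.{w})
  (r : ∀ i, S ⟶ M i)
  (hinj : ∀ z : S, (∀ i, r i z = 0) → z = 0)
  (hfin : ∀ z : S, {i | r i z ≠ 0}.Finite)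
  (hsurj : ∀ (i : ι) (a : M i), ∃ z : S, r i z = a ∧ ∀ j, j ≠ i → r j z = 0)

include hinj in
lemma recog_ext (z z' : S) (h : ∀ i, r i z = r i z') : z = z' := by
  rw [← sub_eq_zero]
  apply hinj
  intro i
  rw [map_sub, h i, sub_self]

/-- the elementary element with a single prescribed coordinate -/
noncomputable def elemFun (i : ι) (a : M i) : S := (hsurj i a).choose

lemma elemFun_self (i : ι) (a : M i) : r i (elemFun S M r hsurj i a) = a :=
  (hsurj i a).choose_spec.1

lemma elemFun_of_ne (i : ι) (a : M i) (j : ι) (hj : j ≠ i) :
    r j (elemFun S M r hsurj i a) = 0 :=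
  (hsurj i a).choose_spec.2 j hj

/-- the elementary elements, as a homomorphism -/
noncomputable def elemHom (i : ι) : M i →+ S where
  toFun := elemFun S M r hsurj i
  map_zero' := by
    apply hinj
    intro j
    by_cases hj : j = i
    · subst hj
      exact elemFun_self S M r hsurj j 0
    · exact elemFun_of_ne S M r hsurj i 0 j hj
  map_add' a b := by
    apply recog_ext S M r hinj
    intro j
    rw [map_add]
    by_cases hj : j = i
    · subst hj
      rw [elemFun_self, elemFun_self, elemFun_self]
    · rw [elemFun_of_ne S M r hsurj i _ j hj, elemFun_of_ne S M r hsurj i _ j hj,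
        elemFun_of_ne S M r hsurj i _ j hj, add_zero]

lemma elemHom_self (i : ι) (a : M i) : r i (elemHom S M r hinj hsurj i a) = a :=
  elemFun_self S M r hsurj i a

lemma elemHom_of_ne (i : ι) (a : M i) (j : ι) (hj : j ≠ i) :
    r j (elemHom S M r hinj hsurj i a) = 0 :=
  elemFun_of_ne S M r hsurj i a j hj

include hfin in
lemma finite_support_comp {N : Type*} [AddCommMonoid N] (φ : ∀ i, M i →+ N) (z : S) :
    (Function.support (fun i => φ i (r i z))).Finite := by
  refine (hfin z).subset ?_
  intro i hi
  simp only [Function.mem_support, ne_eq] at hi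
  intro h0
  apply hi
  rw [h0, map_zero]

include hfin in
/-- every element is the sum of its elementary components -/
lemma eq_finsum_elem (z : S) : z = ∑ᶠ i, elemHom S M r hinj hsurj i (r i z) := by
  classical
  apply recog_ext S M r hinj
  intro j
  have hsupp := finite_support_comp S M r hfin (fun i => elemHom S M r hinj hsurj i) z
  rw [AddMonoidHom.map_finsum (r j).hom hsupp]
  rw [finsum_eq_single _ j]
  · exact (elemHom_self S M r hinj hsurj j _).symm
  · intro i hi
    exact elemHom_of_ne S M r hinj hsurj i _ j (Ne.symm hi)

/-- the cofan of elementary homomorphisms -/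
noncomputable def recogCofan : Cofan M :=
  Cofan.mk S (fun i => AddCommGrpCat.ofHom (elemHom S M r hinj hsurj i))

/-- the descent homomorphism -/
noncomputable def recogDesc (c : Cofan M) : S →+ c.pt where
  toFun z := ∑ᶠ i, (c.inj i).hom (r i z)
  map_zero' := by
    simp only [map_zero]
    exact finsum_zero
  map_add' a b := by
    simp only [map_add]
    exact finsum_add_distrib (finite_support_comp S M r hfin (fun i => (c.inj i).hom) a)
      (finite_support_comp S M r hfin (fun i => (c.inj i).hom) b)

/-- the cofan of elementary homomorphisms is a coproduct -/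
noncomputable def recogIsColimit : IsColimit (recogCofan S M r hinj hsurj) :=
  mkCofanColimit _ (fun c => AddCommGrpCat.ofHom (recogDesc S M r hfin c))
    (fun c i => by
      ext a
      change recogDesc S M r hfin c (elemHom S M r hinj hsurj i a) = (c.inj i) a
      change ∑ᶠ j, (c.inj j).hom (r j (elemHom S M r hinj hsurj i a)) = _
      rw [finsum_eq_single _ i]
      · rw [elemHom_self]
      · intro j hj
        rw [elemHom_of_ne S M r hinj hsurj i a j hj, map_zero])
    (fun c m hm => by
      ext z
      have hz := eq_finsum_elem S M r hinj hfin hsurj (z : S)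
      calc m.hom (z : S)
          = m.hom (∑ᶠ i, elemHom S M r hinj hsurj i (r i (z : S))) := congrArg m.hom hz
        _ = ∑ᶠ i, m.hom (elemHom S M r hinj hsurj i (r i (z : S))) :=
            AddMonoidHom.map_finsum m.hom
              (finite_support_comp S M r hfin (fun i => elemHom S M r hinj hsurj i) (z : S))
        _ = ∑ᶠ j, (c.inj j).hom (r j (z : S)) := by
            refine finsum_congr (fun i => ?_)
            have := congrArg (fun φ : M i ⟶ c.pt => φ (r i (z : S))) (hm i)
            exact this)

include r hinj hfin hsurj in
/-- recognition of a coproduct -/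
theorem nonempty_iso_sigma [HasCoproduct M] : Nonempty (S ≅ ∐ M) :=
  ⟨(recogIsColimit S M r hinj hfin hsurj).coconePointUniqueUpToIso (colimit.isColimit _)⟩

end

end Groth.Agent.Lib.Helper23.Shriek
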