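import Groth.Agent.Lib.Helper23.Shriek.SubSheaf
import Mathlib.CategoryTheory.Limits.Shapes.ZeroMorphisms

/-!
# Sections of a coproduct of abelian étale sheaves are locally finite sums (large index types)

The same as `Shriek/Coprod.lean`, for families indexed by a type of the universe of the sheaf
category's morphisms (needed for the special adjoint functor theorem).
-/

set_option autoImplicit false
universe u

namespace Groth.Agent.Lib.Helper23.ShriekW

open CategoryTheory CategoryTheory.Limits AlgebraicGeometry Opposite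
open Groth.Agent.Lib.Helper23
open Groth.Agent.Lib.Helper23.Shriek (SubSh)

attribute [local instance] Classical.decEq

variable {X : Scheme.{u}} {ι : Type (u+1)} (B : ι → EtCoh.Ab X)

/-- the inclusion of a summand on sections -/
noncomputable abbrev inS (i : ι) (W : X.Etale) : EtCoh.sect (B i) W →+ EtCoh.sect (∐ B) W :=
  ((Sigma.ι B i).hom.app (op W)).hom

/-- the projection to a summand on sections -/
noncomputable abbrev prS (i : ι) (W : X.Etale) : EtCoh.sect (∐ B) W →+ EtCoh.sect (B i) W :=
  ((Sigma.π B i).hom.app (op W)).hom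

lemma prS_inS_self (i : ι) (W : X.Etale) (b : EtCoh.sect (B i) W) :
    prS B i W (inS B i W b) = b := by
  have := congrArg (fun φ : B i ⟶ B i => φ.hom.app (op W) b) (Sigma.ι_π_eq_id B i)
  exact this

lemma prS_inS_of_ne {i j : ι} (h : j ≠ i) (W : X.Etale) (b : EtCoh.sect (B j) W) :
    prS B i W (inS B j W b) = 0 := by
  have := congrArg (fun φ : B j ⟶ B i => φ.hom.app (op W) b) (Sigma.ι_π_of_ne B h)
  exact this

lemma inS_map (i : ι) {W W' : X.Etale} (g : W' ⟶ W) (b : EtCoh.sect (B i) W) :
    (∐ B).obj.map g.op (inS B i W b) = inS B i W' ((B i).obj.map g.op b) := by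
  have := congrArg (fun m => m b)
    (congrArg AddCommGrpCat.Hom.hom ((Sigma.ι B i).hom.naturality g.op))
  simp only [AddCommGrpCat.hom_comp, AddMonoidHom.coe_comp, Function.comp_apply] at this
  exact this.symm

lemma prS_map (i : ι) {W W' : X.Etale} (g : W' ⟶ W) (t : EtCoh.sect (∐ B) W) :
    (B i).obj.map g.op (prS B i W t) = prS B i W' ((∐ B).obj.map g.op t) := by
  have := congrArg (fun m => m t)
    (congrArg AddCommGrpCat.Hom.hom ((Sigma.π B i).hom.naturality g.op))
  simp only [AddCommGrpCat.hom_comp, AddMonoidHom.coe_comp, Function.comp_apply] at this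
  exact this.symm

/-- a section is a finite sum of its components -/
def IsFinSum (W : X.Etale) (t : EtCoh.sect (∐ B) W) : Prop :=
  ∃ s : Finset ι, t = ∑ i ∈ s, inS B i W (prS B i W t) ∧ ∀ i, i ∉ s → prS B i W t = 0

lemma isFinSum_mono {W : X.Etale} {t : EtCoh.sect (∐ B) W} {s s' : Finset ι} (hs : s ⊆ s')
    (h1 : t = ∑ i ∈ s, inS B i W (prS B i W t)) (h2 : ∀ i, i ∉ s → prS B i W t = 0) :
    t = ∑ i ∈ s', inS B i W (prS B i W t) := by
  rw [← Finset.sum_subset hs]
  · exact h1
  · intro i _ hi
    rw [h2 i hi, map_zero]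

/-- the subgroup of finite sums -/
noncomputable def finSub (W : X.Etale) : AddSubgroup (EtCoh.sect (∐ B) W) where
  carrier := {t | IsFinSum B W t}
  zero_mem' := ⟨∅, by simp, fun i _ => map_zero _⟩
  add_mem' := by
    rintro a b ⟨sa, ha1, ha2⟩ ⟨sb, hb1, hb2⟩
    refine ⟨sa ∪ sb, ?_, ?_⟩
    · have ha := isFinSum_mono B (Finset.subset_union_left (s₂ := sb)) ha1 ha2
      have hb := isFinSum_mono B (Finset.subset_union_right (s₁ := sa)) hb1 hb2
      simp only [map_add, Finset.sum_add_distrib]
      rw [← ha, ← hb]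
    · intro i hi
      rw [Finset.mem_union, not_or] at hi
      rw [map_add, ha2 i hi.1, hb2 i hi.2, add_zero]
  neg_mem' := by
    rintro a ⟨sa, ha1, ha2⟩
    refine ⟨sa, ?_, ?_⟩
    · simp only [map_neg, Finset.sum_neg_distrib]
      rw [← ha1]
    · intro i hi
      rw [map_neg, ha2 i hi, neg_zero]

lemma inS_mem_finSub (i : ι) (W : X.Etale) (b : EtCoh.sect (B i) W) :
    inS B i W b ∈ finSub B W := by
  refine ⟨{i}, ?_, ?_⟩
  · rw [Finset.sum_singleton, prS_inS_self]
  · intro j hj
    rw [Finset.mem_singleton] at hj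
    exact prS_inS_of_ne B (fun h : i = j => hj h.symm) W b

lemma finSub_map {W W' : X.Etale} (g : W' ⟶ W) (t : EtCoh.sect (∐ B) W)
    (ht : t ∈ finSub B W) : (∐ B).obj.map g.op t ∈ finSub B W' := by
  obtain ⟨s, h1, h2⟩ := ht
  refine ⟨s, ?_, ?_⟩
  · conv_lhs => rw [h1]
    rw [map_sum]
    refine Finset.sum_congr rfl (fun i _ => ?_)
    rw [inS_map, prS_map]
  · intro i hi
    rw [← prS_map, h2 i hi, map_zero]

/-- a finite sum all of whose components vanish is zero -/
lemma eq_zero_of_mem_finSub {W : X.Etale} (t : EtCoh.sect (∐ B) W) (ht : t ∈ finSub B W)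
    (h : ∀ i, prS B i W t = 0) : t = 0 := by
  obtain ⟨s, h1, -⟩ := ht
  rw [h1]
  exact Finset.sum_eq_zero (fun i _ => by rw [h i, map_zero])

/-- the sieve on which a section is a finite sum -/
noncomputable def finSieve (W : X.Etale) (t : EtCoh.sect (∐ B) W) : Sieve W where
  arrows W' g := (∐ B).obj.map g.op t ∈ finSub B W'
  downward_closed := by
    intro W' W'' g hg k
    rw [EtSupp.map_comp_apply]
    exact finSub_map B k _ hg

lemma finSieve_map {W W' : X.Etale} (g : W' ⟶ W) (t : EtCoh.sect (∐ B) W) :
    finSieve B W' ((∐ B).obj.map g.op t) = (finSieve B W t).pullback g := by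
  ext W'' k
  change (∐ B).obj.map k.op ((∐ B).obj.map g.op t) ∈ finSub B W'' ↔
    (∐ B).obj.map (k ≫ g).op t ∈ finSub B W''
  rw [EtSupp.map_comp_apply]

/-- the local subgroups of locally finite sums -/
noncomputable def locFin : SubSh (∐ B) where
  S W :=
    { carrier := {t | finSieve B W t ∈ X.smallEtaleTopology W}
      zero_mem' := by
        refine X.smallEtaleTopology.superset_covering ?_ (X.smallEtaleTopology.top_mem W)
        intro W' g _
        change (∐ B).obj.map g.op 0 ∈ finSub B W'
        rw [map_zero]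
        exact (finSub B W').zero_mem
      add_mem' := by
        intro a b ha hb
        refine X.smallEtaleTopology.superset_covering ?_
          (X.smallEtaleTopology.intersection_covering ha hb)
        rintro W' g ⟨h1, h2⟩
        change (∐ B).obj.map g.op (a + b) ∈ finSub B W'
        rw [map_add]
        exact (finSub B W').add_mem h1 h2
      neg_mem' := by
        intro a ha
        refine X.smallEtaleTopology.superset_covering ?_ ha
        intro W' g h1
        change (∐ B).obj.map g.op (-a) ∈ finSub B W'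
        rw [map_neg]
        exact (finSub B W').neg_mem h1 }
  map_mem := by
    intro W W' g t ht
    change finSieve B W' _ ∈ X.smallEtaleTopology W'
    rw [finSieve_map]
    exact X.smallEtaleTopology.pullback_stable g ht
  loc := by
    intro W t R hR h
    refine X.smallEtaleTopology.transitive hR _ ?_
    intro W' g hg
    rw [← finSieve_map]
    exact h g hg

/-- sections of a coproduct of abelian sheaves are locally finite sums -/
theorem finSieve_mem (W : X.Etale) (t : EtCoh.sect (∐ B) W) :
    finSieve B W t ∈ X.smallEtaleTopology W := by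
  have hl : ∀ i, ∃ ψ : B i ⟶ (locFin B).sheaf, ψ ≫ (locFin B).ιSh = Sigma.ι B i := fun i =>
    (locFin B).exists_lift (Sigma.ι B i) (fun W s => by
      refine X.smallEtaleTopology.superset_covering ?_ (X.smallEtaleTopology.top_mem W)
      intro W' g _
      exact finSub_map B g _ (inS_mem_finSub B i W s))
  choose ψ hψ using hl
  have hd : Sigma.desc ψ ≫ (locFin B).ιSh = 𝟙 _ := by
    apply Sigma.hom_ext
    intro i
    rw [← Category.assoc, Sigma.ι_desc, hψ, Category.comp_id]
  have : Epi (locFin B).ιSh := by
    have : IsSplitEpi (locFin B).ιSh := ⟨⟨Sigma.desc ψ, hd⟩⟩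
    infer_instance
  exact (locFin B).mem_of_epi W t

/-- a section of a coproduct all of whose components vanish is zero -/
theorem eq_zero_of_prS_eq_zero (W : X.Etale) (t : EtCoh.sect (∐ B) W)
    (h : ∀ i, prS B i W t = 0) : t = 0 := by
  have hP := (isSheaf_iff_isSheaf_of_type _ _).1 (EtSupp.shOf (∐ B)).2
  refine (hP _ (finSieve_mem B W t)).isSeparatedFor.ext (fun W' g hg => ?_)
  change (∐ B).obj.map g.op t = (∐ B).obj.map g.op 0
  rw [map_zero]
  refine eq_zero_of_mem_finSub B _ hg (fun i => ?_)
  rw [← prS_map, h i, map_zero]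

end Groth.Agent.Lib.Helper23.ShriekW
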