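import Groth.Agent.Lib.Helper23.Shriek.Comp

/-!
# The inclusion `f_! ⟶ f_*`; it is an isomorphism for proper `f`
-/

set_option autoImplicit false
universe u

namespace Groth.Agent.Lib.Helper23.Shriek

open CategoryTheory CategoryTheory.Limits AlgebraicGeometry Opposite EtShriek
open Groth.Agent.Lib.Helper23 Groth.Agent.Lib.Helper9.ProperOver

variable {X Y : Scheme.{u}} (f : X ⟶ Y) [LocallyOfFiniteType f]

omit [LocallyOfFiniteType f] in
lemma lowerShriekPreι_naturality {F G : EtCoh.Ab X} (α : F ⟶ G) :
    (lowerShriekPreFunctor f).map α ≫ lowerShriekPreι f G =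
      lowerShriekPreι f F ≫ Functor.whiskerLeft (EtCoh.bc f).op α.hom := by
  ext W x
  rfl

/-- the inclusion `f_! ⟶ f_*` -/
noncomputable def ιL : L f ⟶ EtCoh.push f where
  app F := ⟨lowerShriekPreι f F⟩
  naturality F G α := by
    apply Sheaf.hom_ext
    exact lowerShriekPreι_naturality f α

lemma ιL_app_hom (F : EtCoh.Ab X) : ((ιL f).app F).hom = lowerShriekPreι f F := rfl

/-- if all sections over all base changes have proper support, `f_! F ⟶ f_* F` is an
isomorphism -/
lemma isIso_ιL_app_of_forall (F : EtCoh.Ab X)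
    (h : ∀ (V : Y.Etale) (s : EtCoh.sect F ((EtCoh.bc f).obj V)), s ∈ shriekSubgroup f F V) :
    IsIso ((ιL f).app F) := by
  rw [← isIso_iff_of_reflects_iso _ (sheafToPresheaf _ _), NatTrans.isIso_iff_isIso_app]
  intro V
  change IsIso ((lowerShriekPreι f F).app V)
  rw [ConcreteCategory.isIso_iff_bijective]
  refine ⟨lowerShriekPreι_injective f F V, fun s => ⟨⟨s, h V.unop s⟩, rfl⟩⟩

omit [LocallyOfFiniteType f] in
/-- for proper `f`, all sections have proper support -/
lemma mem_shriekSubgroup_of_isProper [IsProper f] (F : EtCoh.Ab X) (V : Y.Etale)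
    (s : EtCoh.sect F ((EtCoh.bc f).obj V)) : s ∈ shriekSubgroup f F V := by
  rw [mem_shriekSubgroup_iff']
  have : IsProper (prV f V) :=
    MorphismProperty.pullback_fst (P := @IsProper) V.hom f inferInstance
  exact isProperOver_of_isProper _ _ (isClosed_sectSupp F _ s)

omit [LocallyOfFiniteType f] in
instance [IsProper f] : IsIso (ιL f) := by
  rw [NatTrans.isIso_iff_isIso_app]
  intro F
  exact isIso_ιL_app_of_forall f F (mem_shriekSubgroup_of_isProper f F)

omit [LocallyOfFiniteType f] in
/-- `f_! ≅ f_*` for proper `f` -/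
noncomputable def properIso [IsProper f] : L f ≅ EtCoh.push f := asIso (ιL f)

end Groth.Agent.Lib.Helper23.Shriek
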