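import Groth.Agent.Lib.Helper23.Shriek.OpenImm
import Mathlib.AlgebraicGeometry.Morphisms.FinitePresentation
import Mathlib.AlgebraicGeometry.Morphisms.Etale
import Mathlib.CategoryTheory.Limits.Shapes.Pullback.Iso

/-!
# Sections with compact support and extension by zero to a compactification
-/

set_option autoImplicit false
universe u

namespace Groth.Agent.Lib.Helper23.Shriek

open CategoryTheory CategoryTheory.Limits AlgebraicGeometry Opposite EtShriek
open Groth.Agent.Lib.Helper23 Groth.Agent.Lib.Helper9.ProperOver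

section ClSub

variable {A B S : Scheme.{u}}

lemma isProperOver_comp_proper_iff (p : A ⟶ B) (q : B ⟶ S) [IsProper q] (T : Set A)
    (hT : IsClosed T) : ClSub.IsProperOver (p ≫ q) T ↔ ClSub.IsProperOver p T := by
  rw [isProperOver_iff (p ≫ q) T hT, isProperOver_iff p T hT]
  constructor
  · intro h
    refine MorphismProperty.of_postcomp (W := @IsProper) (W' := @IsSeparated) _ q inferInstance ?_
    rw [Category.assoc]; exact h
  · intro h
    rw [← Category.assoc]
    infer_instance

lemma isProperOver_iso_iff (e : A ≅ B) (p : A ⟶ S) (q : B ⟶ S) [LocallyOfFiniteType q]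
    (w : e.hom ≫ q = p) (T : Set B) :
    ClSub.IsProperOver p (e.hom.base ⁻¹' T) ↔ ClSub.IsProperOver q T := by
  constructor
  · intro h
    have hp : LocallyOfFiniteType p := by rw [← w]; infer_instance
    have hw' : e.symm.hom ≫ p = q := by
      rw [← w, ← Category.assoc]
      change (e.inv ≫ e.hom) ≫ _ = _
      rw [Iso.inv_hom_id, Category.id_comp]
    have := isProperOver_of_iso e.symm q p hw' _ h
    have he : e.symm.hom.base ⁻¹' (e.hom.base ⁻¹' T) = T := by
      ext x
      simp only [Set.mem_preimage]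
      have : e.hom.base (e.symm.hom.base x) = x := by
        change (e.inv ≫ e.hom).base x = x
        rw [Iso.inv_hom_id]; rfl
      rw [this]
    rwa [he] at this
  · intro h
    exact isProperOver_of_iso e p q w T h

end ClSub

variable {k : Type u} [Field k] {X Xb : Scheme.{u}}

set_option backward.isDefEq.respectTransparency.types false in
/-- `H^0_c` consists of the sections with proper support -/
lemma mem_H0c_iff (p : X ⟶ Spec (CommRingCat.of k)) [LocallyOfFiniteType p] (F : EtCoh.Ab X)
    (s : EtCoh.sect F (EtCoh.top X)) :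
    s ∈ H0c p F ↔ ClSub.IsProperOver p (sectSupp F (EtCoh.top X) s) := by
  refine Iff.trans ?_ (@hasProperSupport_iff _ _ F (EtCoh.top X) p ‹_› s)
  constructor
  · intro hs
    refine AddSubgroup.closure_induction
      (p := fun x _ => HasProperSupport F (EtCoh.top X) x p) ?_ ?_ ?_ ?_ hs
    · intro x hx; exact hx
    · exact @hasProperSupport_zero _ _ F (EtCoh.top X) p ‹_›
    · intro x y _ _ hx hy; exact @hasProperSupport_add _ _ F (EtCoh.top X) p ‹_› x y hx hy
    · intro x _ hx; exact @hasProperSupport_neg _ _ F (EtCoh.top X) p x hx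
  · intro hs
    exact AddSubgroup.subset_closure hs

variable (j : X ⟶ Xb) [IsOpenImmersion j]

set_option backward.isDefEq.respectTransparency.types false in
/-- `X ×_{Xb} Xb ≅ X` in the small étale site of `X` -/
noncomputable def bcTopIsoLeft : ((EtCoh.bc j).obj (EtCoh.top Xb)).left ≅ X :=
  (asIso (pullback.snd (𝟙 Xb) j) : pullback (𝟙 Xb) j ≅ X)

set_option backward.isDefEq.respectTransparency.types false in
noncomputable def bcTopIso : (EtCoh.bc j).obj (EtCoh.top Xb) ≅ EtCoh.top X :=
  MorphismProperty.Over.isoMk (bcTopIsoLeft j) (Category.comp_id _)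

set_option backward.isDefEq.respectTransparency.types false in
lemma bcTopIsoLeft_hom_comp : (bcTopIsoLeft j).hom ≫ j = prV j (EtCoh.top Xb) := by
  change pullback.snd (𝟙 Xb) j ≫ j = pullback.fst (𝟙 Xb) j
  rw [← pullback.condition, Category.comp_id]

set_option backward.isDefEq.respectTransparency.types false in
lemma bcTopIso_hom_left : (bcTopIso j).hom.left = (bcTopIsoLeft j).hom := rfl

variable (pb : Xb ⟶ Spec (CommRingCat.of k)) [IsProper pb] (F : EtCoh.Ab X)

instance : LocallyOfFiniteType (j ≫ pb) := inferInstance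

set_option backward.isDefEq.respectTransparency.types false in
/-- the key membership statement -/
lemma mem_H0c_iff_mem_shriekSubgroup (s : EtCoh.sect F (EtCoh.top X)) :
    s ∈ H0c (j ≫ pb) F ↔
      F.obj.map (bcTopIso j).hom.op s ∈ shriekSubgroup j F (EtCoh.top Xb) := by
  have hj : LocallyOfFiniteType j := inferInstance
  refine (mem_H0c_iff (j ≫ pb) F s).trans ?_
  refine (isProperOver_comp_proper_iff j pb _ (isClosed_sectSupp F _ s)).trans ?_
  refine (@isProperOver_iso_iff _ _ _ (bcTopIsoLeft j) (prV j (EtCoh.top Xb)) j hj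
    (bcTopIsoLeft_hom_comp j) _).symm.trans ?_
  refine Iff.trans ?_ (mem_shriekSubgroup_iff' j F (EtCoh.top Xb) _).symm
  rw [sectSupp_map, bcTopIso_hom_left]
  exact Iff.rfl

/-- `H^0_c(X, F) ≃ Γ(Xb, j_! F)` at the level of sections with proper support -/
noncomputable def h0cEquivL :
    H0c (j ≫ pb) F ≃+ shriekSubgroup j F (EtCoh.top Xb) :=
  let φ : EtCoh.sect F (EtCoh.top X) ≃+ EtCoh.sect F ((EtCoh.bc j).obj (EtCoh.top Xb)) :=
    (F.obj.mapIso (bcTopIso j).op).addCommGroupIsoToAddEquiv
  (φ.addSubgroupMap (H0c (j ≫ pb) F)).trans (AddEquiv.addSubgroupCongr (by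
    ext t
    constructor
    · rintro ⟨s, hs, rfl⟩
      exact (mem_H0c_iff_mem_shriekSubgroup j pb F s).1 hs
    · intro ht
      refine ⟨φ.symm t, ?_, φ.apply_symm_apply t⟩
      rw [SetLike.mem_coe, mem_H0c_iff_mem_shriekSubgroup]
      have : F.obj.map (bcTopIso j).hom.op (φ.symm t) = t := φ.apply_symm_apply t
      rw [this]
      exact ht))

variable [EtShriek.JCont j]

/-- `H^0_c(X, F) ≃ Γ(Xb, j_! F)` -/
noncomputable def h0cEquiv :
    H0c (j ≫ pb) F ≃+ EtCoh.sect ((extZero j).obj F) (EtCoh.top Xb) :=
  (h0cEquivL j pb F).trans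
    (((sheafSections Xb.smallEtaleTopology AddCommGrpCat.{u+1}).obj (op (EtCoh.top Xb))).mapIso
      ((openIso j).app F)).addCommGroupIsoToAddEquiv

end Groth.Agent.Lib.Helper23.Shriek
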