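import Groth.Agent.Lib.Helper23.Shriek.Sheaf

/-!
# The functor of sections with proper support as a sheaf-valued functor
-/

set_option autoImplicit false
universe u

namespace Groth.Agent.Lib.Helper23.Shriek

open CategoryTheory CategoryTheory.Limits AlgebraicGeometry Opposite EtShriek
open Groth.Agent.Lib.Helper23 Groth.Agent.Lib.Helper9.ProperOver

/-! ### more on closed subsets proper over a base -/

section ClSub

variable {A B S : Scheme.{u}}

/-- a closed subset is proper over the base for a proper morphism -/
lemma isProperOver_of_isProper (p : A ⟶ S) [IsProper p] (T : Set A) (hT : IsClosed T) :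
    ClSub.IsProperOver p T := by
  rw [isProperOver_iff p T hT]
  infer_instance

/-- transitivity of "proper over" -/
theorem isProperOver_comp_iff (p : A ⟶ B) (q : B ⟶ S) [LocallyOfFiniteType p]
    [LocallyOfFiniteType q] [IsSeparated q] (T : Set A) (hT : IsClosed T) :
    ClSub.IsProperOver (p ≫ q) T ↔ ClSub.IsProperOver p T ∧ ClSub.IsProperOver q (p.base '' T) := by
  constructor
  · intro h
    refine ⟨?_, isProperOver_image_of_isSeparated (p ≫ q) q p rfl T h⟩
    obtain ⟨_, hp⟩ := h
    rw [isProperOver_iff p T hT]
    refine MorphismProperty.of_postcomp (W := @IsProper) (W' := @IsSeparated) _ q inferInstance ?_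
    rw [Category.assoc]; exact hp
  · rintro ⟨h1, h2⟩
    obtain ⟨hW, hq⟩ := h2
    rw [isProperOver_iff p T hT] at h1
    rw [isProperOver_iff (p ≫ q) T hT]
    have hker : (red (p.base '' T) hW).subschemeι.ker ≤ ((red T hT).subschemeι ≫ p).ker := by
      rw [Scheme.IdealSheafData.ker_subschemeι, Scheme.Hom.ker_comp,
        Scheme.IdealSheafData.ker_subschemeι, Scheme.IdealSheafData.map_vanishingIdeal]
      apply Scheme.IdealSheafData.vanishingIdeal_antimono
      rw [TopologicalSpace.Closeds.closure_le]
      exact subset_rfl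
    set ρ := IsClosedImmersion.lift (red (p.base '' T) hW).subschemeι
      ((red T hT).subschemeι ≫ p) hker with hρdef
    have hfac : ρ ≫ (red (p.base '' T) hW).subschemeι = (red T hT).subschemeι ≫ p :=
      IsClosedImmersion.lift_fac _ _ hker
    have hρ : IsProper ρ := by
      refine MorphismProperty.of_postcomp (W := @IsProper) (W' := @IsSeparated) ρ
        (red (p.base '' T) hW).subschemeι inferInstance ?_
      rw [hfac]; exact h1
    have : (red T hT).subschemeι ≫ p ≫ q = ρ ≫ (red (p.base '' T) hW).subschemeι ≫ q := by
      rw [← Category.assoc, ← hfac, Category.assoc]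
    rw [this]
    infer_instance

/-- transport of "proper over" along an isomorphism of the total space -/
lemma isProperOver_of_iso (e : A ≅ B) (p : A ⟶ S) (q : B ⟶ S) [LocallyOfFiniteType q]
    (w : e.hom ≫ q = p) (T : Set B) (h : ClSub.IsProperOver q T) :
    ClSub.IsProperOver p (e.hom.base ⁻¹' T) := by
  have sq : IsPullback e.hom p q (𝟙 S) :=
    IsPullback.of_horiz_isIso ⟨by rw [w, Category.comp_id]⟩
  exact isProperOver_preimage_of_isPullback q (𝟙 S) e.hom p sq T h

end ClSub

variable {X Y : Scheme.{u}} (f : X ⟶ Y) [LocallyOfFiniteType f] (F : EtCoh.Ab X)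

/-- proper support is stable under base change, so the hereditary predicate is just properness
of the support -/
lemma shriekPred_iff (V : Y.Etale) (s : EtCoh.sect F ((EtCoh.bc f).obj V)) :
    ShriekPred f F V s ↔
      ClSub.IsProperOver (prV f V) (sectSupp F ((EtCoh.bc f).obj V) s) := by
  constructor
  · intro h
    have h1 := h V (𝟙 V)
    rw [CategoryTheory.Functor.map_id, op_id, CategoryTheory.Functor.map_id] at h1
    exact (hasProperSupport_iff F _ _ _).1 h1
  · intro h V' φ
    rw [hasProperSupport_iff, sectSupp_map]
    exact isProperOver_preimage_of_isPullback (prV f V) φ.left ((EtCoh.bc f).map φ).left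
      (prV f V') (EtCoh.isPullback_bc_map f φ) _ h

lemma mem_shriekSubgroup_iff' (V : Y.Etale) (s : EtCoh.sect F ((EtCoh.bc f).obj V)) :
    s ∈ shriekSubgroup f F V ↔
      ClSub.IsProperOver (prV f V) (sectSupp F ((EtCoh.bc f).obj V) s) := by
  rw [mem_shriekSubgroup_iff, shriekPred_iff]

/-- the sheaf of sections with proper support -/
noncomputable def L : EtCoh.Ab X ⥤ EtCoh.Ab Y where
  obj F := ⟨lowerShriekPre f F, isSheaf_lowerShriekPre f F⟩
  map α := ⟨(lowerShriekPreFunctor f).map α⟩
  map_id F := by
    apply Sheaf.hom_ext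
    exact (lowerShriekPreFunctor f).map_id F
  map_comp α β := by
    apply Sheaf.hom_ext
    exact (lowerShriekPreFunctor f).map_comp α β

/-- `f_!` is the sheaf of sections with proper support -/
noncomputable def LIso : lowerShriek f ≅ L f :=
  (Functor.isoWhiskerRight (NatIso.ofComponents (fun F => Iso.refl _) (by intros; simp; rfl) :
      lowerShriekPreFunctor f ≅ L f ⋙ sheafToPresheaf _ _)
    (presheafToSheaf Y.smallEtaleTopology AddCommGrpCat.{u+1})) ≪≫
  Functor.associator _ _ _ ≪≫
  Functor.isoWhiskerLeft (L f) (sheafificationNatIso Y.smallEtaleTopology AddCommGrpCat.{u+1}).symm ≪≫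
  Functor.rightUnitor _

end Groth.Agent.Lib.Helper23.Shriek
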