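import Groth.Agent.Lib.Helper23.Shriek.SuppL
import Groth.Agent.Lib.Helper23.FlcExt
import Mathlib.Algebra.Homology.ShortComplex.ExactFunctor
import Mathlib.Algebra.Homology.ShortComplex.Ab

/-!
# The direct image with proper support is left exact
-/

set_option autoImplicit false
universe u

namespace Groth.Agent.Lib.Helper23.Shriek

open CategoryTheory CategoryTheory.Limits AlgebraicGeometry Opposite EtShriek
open Groth.Agent.Lib.Helper23 Groth.Agent.Lib.Helper9.ProperOver

section Supp

variable {X : Scheme.{u}}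

lemma injective_app_of_mono {K F : EtCoh.Ab X} (ι : K ⟶ F) [Mono ι] (U : X.Etaleᵒᵖ) :
    Function.Injective (ι.hom.app U) := by
  have h1 : Mono ι.hom := inferInstanceAs (Mono ((sheafToPresheaf _ _).map ι))
  exact (AddCommGrpCat.mono_iff_injective _).1 inferInstance

/-- the support of a section does not change along a monomorphism -/
lemma sectSupp_mono {K F : EtCoh.Ab X} (ι : K ⟶ F) [Mono ι] (U : X.Etale) (s : EtCoh.sect K U) :
    sectSupp F U (ι.hom.app (op U) s) = sectSupp K U s := by
  apply subset_antisymm (EtShriek.sectSupp_map_subset ι U s)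
  intro x hx W g hw h0
  apply hx W g hw
  apply injective_app_of_mono ι (op W)
  have := congrArg (fun φ => φ s) (congrArg AddCommGrpCat.Hom.hom (ι.hom.naturality g.op))
  simp only [AddCommGrpCat.hom_comp, AddMonoidHom.coe_comp, Function.comp_apply] at this
  rw [map_zero]
  exact this.trans h0

end Supp

variable {X Y : Scheme.{u}} (f : X ⟶ Y) [LocallyOfFiniteType f]

/-- sections with proper support over a fixed `V`, as a functor of the sheaf -/
noncomputable abbrev GV (V : Y.Etaleᵒᵖ) : EtCoh.Ab X ⥤ AddCommGrpCat.{u+1} :=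
  lowerShriekPreFunctor f ⋙ (evaluation Y.Etaleᵒᵖ AddCommGrpCat.{u+1}).obj V

instance (V : Y.Etaleᵒᵖ) : (GV f V).Additive where
  map_add := by
    intro F G α β
    ext ⟨s, hs⟩
    apply Subtype.ext
    rfl

lemma GV_map_val (V : Y.Etaleᵒᵖ) {F G : EtCoh.Ab X} (α : F ⟶ G)
    (s : shriekSubgroup f F V.unop) :
    (((GV f V).map α s : shriekSubgroup f G V.unop)).1 =
      α.hom.app (op ((EtCoh.bc f).obj V.unop)) s.1 := rfl

set_option backward.isDefEq.respectTransparency.types false in
set_option backward.isDefEq.respectTransparency false in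
lemma GV_exact (V : Y.Etaleᵒᵖ) (S : ShortComplex (EtCoh.Ab X)) (hS : S.ShortExact) :
    (S.map (GV f V)).Exact ∧ Mono ((GV f V).map S.f) := by
  haveI : Mono S.f := hS.mono_f
  constructor
  · rw [ShortComplex.ab_exact_iff]
    intro x₂ hx₂
    let t : shriekSubgroup f S.X₂ V.unop := x₂
    have h0 : S.g.hom.app (op ((EtCoh.bc f).obj V.unop)) t.1 = 0 := by
      have := congrArg (fun y : shriekSubgroup f S.X₃ V.unop => y.1) hx₂
      exact this
    obtain ⟨u, hu⟩ := FlcLoc.sections_exact S.f S.g S.zero hS ((EtCoh.bc f).obj V.unop) t.1 h0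
    have hmem : u ∈ shriekSubgroup f S.X₁ V.unop := by
      rw [mem_shriekSubgroup_iff', ← sectSupp_mono S.f, hu]
      exact (mem_shriekSubgroup_iff' f S.X₂ V.unop t.1).1 t.2
    refine ⟨(⟨u, hmem⟩ : shriekSubgroup f S.X₁ V.unop), ?_⟩
    apply Subtype.ext
    exact hu
  · rw [AddCommGrpCat.mono_iff_injective]
    intro a b hab
    apply Subtype.ext
    apply injective_app_of_mono S.f (op ((EtCoh.bc f).obj V.unop))
    have := congrArg (fun y : shriekSubgroup f S.X₂ V.unop => y.1) hab
    exact this

instance preservesFiniteLimits_GV (V : Y.Etaleᵒᵖ) : PreservesFiniteLimits (GV f V) :=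
  ((GV f V).preservesFiniteLimits_tfae.out 0 3).1 (GV_exact f V)

instance preservesFiniteLimits_pre : PreservesFiniteLimits (lowerShriekPreFunctor f) :=
  ⟨fun J _ _ => preservesLimitsOfShape_of_evaluation _ J (fun V => inferInstance)⟩

/-- `F ↦` (sections with proper support) is left exact -/
instance preservesFiniteLimits_L : PreservesFiniteLimits (L f) := by
  refine ⟨fun J _ _ => ?_⟩
  have e : lowerShriekPreFunctor f ≅ L f ⋙ sheafToPresheaf _ _ :=
    NatIso.ofComponents (fun F => Iso.refl _) (by intros; simp; rfl)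
  haveI : PreservesLimitsOfShape J (L f ⋙ sheafToPresheaf _ _) :=
    preservesLimitsOfShape_of_natIso e
  exact preservesLimitsOfShape_of_reflects_of_preserves (L f) (sheafToPresheaf _ _)

/-- `f_!` is left exact -/
theorem preservesFiniteLimits_lowerShriek : PreservesFiniteLimits (lowerShriek f) :=
  preservesFiniteLimits_of_natIso (LIso f).symm

end Groth.Agent.Lib.Helper23.Shriek
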