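import Groth.Agent.Lib.Helper23.Shriek.Proper
import Groth.Agent.S0652

/-!
# For an open immersion `j`, the sheaf of sections with proper support is extension by zero
-/

set_option autoImplicit false
universe u

namespace Groth.Agent.Lib.Helper23.Shriek

open CategoryTheory CategoryTheory.Limits AlgebraicGeometry Opposite EtShriek
open Groth.Agent.Lib.Helper23 Groth.Agent.Lib.Helper9.ProperOver
open Groth.Agent.Lib.Helper23.EtRestr

lemma isIso_fst_of_mono {C : Type*} [Category C] {V U X : C} (a : V ⟶ U) (j : U ⟶ X) [Mono j]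
    [HasPullback (a ≫ j) j] : IsIso (pullback.fst (a ≫ j) j) := by
  have hw : 𝟙 V ≫ a ≫ j = a ≫ j := Category.id_comp _
  refine ⟨pullback.lift (𝟙 V) a hw, ?_, pullback.lift_fst _ _ _⟩
  rw [← cancel_mono (pullback.fst (a ≫ j) j), Category.assoc, pullback.lift_fst,
    Category.comp_id, Category.id_comp]

section Support

variable {X Y : Scheme.{u}} (f : X ⟶ Y) [LocallyOfFiniteType f] (F : EtCoh.Ab X)

set_option backward.isDefEq.respectTransparency.types false in
/-- the support of `f_! F` lies in the image of `f` -/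
lemma supp_L_subset : EtPBC.supp ((L f).obj F) ⊆ Set.range f.base := by
  rw [(Groth.Agent.S0671.result ((L f).obj F)).2]
  intro x hx
  obtain ⟨W, σ, w, hw, rfl⟩ := Set.mem_iUnion₂.1 hx
  have hσ : sectSupp ((L f).obj F) W σ = _ := sectSupp_L f F W σ
  rw [hσ] at hw
  obtain ⟨z, -, rfl⟩ := hw
  refine ⟨(pullback.snd W.hom f).base z, ?_⟩
  have := congrArg (fun k => k.base z) (pullback.condition (f := W.hom) (g := f))
  exact this.symm

lemma isZero_stalk_L {Ω : Type u} [Field Ω] [IsSepClosed Ω] (ξ : Spec (CommRingCat.of Ω) ⟶ Y)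
    (h : Set.range ξ.base ⊆ (Set.range f.base)ᶜ) :
    IsZero ((EtCoh.stalk ξ).obj ((L f).obj F)) := by
  by_contra hz
  have hmem : ξ.base default ∈ EtPBC.supp ((L f).obj F) :=
    ⟨Ω, inferInstance, inferInstance, ξ, Set.range_unique, hz⟩
  exact h ⟨default, rfl⟩ (supp_L_subset f F hmem)

end Support

variable {U X : Scheme.{u}} (j : U ⟶ X) [IsOpenImmersion j] [EtShriek.JCont j]

set_option backward.isDefEq.respectTransparency.types false in
omit [JCont j] in
lemma isIso_prV_compEtale (V : U.Etale) : IsIso (prV j ((compEtale j).obj V)) :=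
  isIso_fst_of_mono V.hom j

lemma mem_shriekSubgroup_compEtale (F : EtCoh.Ab U) (V : U.Etale)
    (s : EtCoh.sect F ((EtCoh.bc j).obj ((compEtale j).obj V))) :
    s ∈ shriekSubgroup j F ((compEtale j).obj V) := by
  rw [mem_shriekSubgroup_iff']
  have := isIso_prV_compEtale j V
  exact isProperOver_of_isProper _ _ (isClosed_sectSupp F _ s)

instance : IsIso (Functor.whiskerRight (ιL j) (restrAlong j)) := by
  rw [NatTrans.isIso_iff_isIso_app]
  intro F
  rw [← isIso_iff_of_reflects_iso _ (sheafToPresheaf _ _), NatTrans.isIso_iff_isIso_app]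
  intro V
  change IsIso ((lowerShriekPreι j F).app (op ((compEtale j).obj V.unop)))
  rw [ConcreteCategory.isIso_iff_bijective]
  exact ⟨lowerShriekPreι_injective j F _,
    fun s => ⟨⟨s, mem_shriekSubgroup_compEtale j F V.unop s⟩, rfl⟩⟩

/-- `j^{-1} j_! ≅ id` for the sheaf of sections with proper support -/
noncomputable def restrLIso : L j ⋙ restrAlong j ≅ 𝟭 (EtCoh.Ab U) :=
  haveI := Groth.Agent.S0651.isIso_counit_restrPush j
  asIso (Functor.whiskerRight (ιL j) (restrAlong j)) ≪≫ asIso (restrPushAdj j).counit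

/-- the counit `j_! j^{-1} G → G` is an isomorphism when the stalks of `G` vanish outside `U` -/
lemma isIso_counit_of_stalks (G : EtCoh.Ab X)
    (hzero : ∀ (Ω : Type u) [Field Ω] [IsSepClosed Ω] (ξ : Spec (CommRingCat.of Ω) ⟶ X),
      Set.range ξ.base ⊆ (Set.range j.base)ᶜ → IsZero ((EtCoh.stalk ξ).obj G)) :
    IsIso ((extZeroAdj j).counit.app G) := by
  obtain ⟨Z, i, hi, hZU⟩ := Groth.Agent.S0652.exists_closed_compl j
  have hJC := Groth.Agent.Lib.Helper23.EtRecoll.isZero_of_restr_pull i j hZU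
  have hzG : IsZero ((EtCoh.pull i).obj G) := by
    apply Groth.Agent.S0622.isZero_of_stalks
    intro Ω _ _ ζ
    obtain ⟨e1⟩ := Groth.Agent.S0100.result i G ζ
    refine (hzero Ω (ζ ≫ i) ?_).of_iso e1
    rintro x ⟨t, rfl⟩
    rw [hZU, compl_compl]
    exact ⟨ζ t, rfl⟩
  have hz1 : IsZero ((EtCoh.pull i).obj ((extZero j).obj ((restrAlong j).obj G))) :=
    Groth.Agent.Lib.Helper23.EtRecoll.isZero_pull_extZero i j hZU _
  apply Groth.Agent.Lib.Helper23.JointExact.isIso_of (restrAlong j) (EtCoh.pull i) hJC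
  · exact Groth.Agent.Lib.Helper23.EtRecoll.isIso_restr_counit j G
  · exact ⟨⟨0, hz1.eq_of_src _ _, hzG.eq_of_src _ _⟩⟩

instance : IsIso (Functor.whiskerLeft (L j) (extZeroAdj j).counit) := by
  rw [NatTrans.isIso_iff_isIso_app]
  intro F
  exact isIso_counit_of_stalks j _ (fun Ω _ _ ξ h => isZero_stalk_L j F ξ h)

/-- for an open immersion, sections with proper support give extension by zero -/
noncomputable def openIso : L j ≅ extZero j :=
  (Functor.rightUnitor (L j)).symm ≪≫
    (asIso (Functor.whiskerLeft (L j) (extZeroAdj j).counit)).symm ≪≫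
    (Functor.associator _ _ _).symm ≪≫
    Functor.isoWhiskerRight (restrLIso j) (extZero j) ≪≫ Functor.leftUnitor _

end Groth.Agent.Lib.Helper23.Shriek
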