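import Groth.Agent.Lib.Helper23.Shriek.CoprodW
import Groth.Agent.Lib.Helper23.Shriek.PresCoprod
import Groth.Agent.Lib.Helper23.Shriek.Proper
import Mathlib.CategoryTheory.Limits.Preserves.Shapes.Products

/-!
# The direct image with proper support commutes with direct sums (large index types)
-/

set_option autoImplicit false
universe u

namespace Groth.Agent.Lib.Helper23.ShriekW

open CategoryTheory CategoryTheory.Limits AlgebraicGeometry Opposite EtShriek
open Groth.Agent.Lib.Helper23 Groth.Agent.Lib.Helper9.ProperOver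
open Groth.Agent.Lib.Helper23.Shriek (L LIso mono_of_injective_app eq_zero_of_sectSupp_eq_empty
  mem_shriekSubgroup_iff' isCompact_of_isProperOver isClosed_sectSupp isProperOver_of_subset)

attribute [local instance] Classical.decEq

variable {X Y : Scheme.{u}} (f : X ⟶ Y) [LocallyOfFiniteType f]

variable {ι : Type (u+1)} (A : ι → EtCoh.Ab X)

/-- the comparison map `⊕ f_! A_i ⟶ f_! (⊕ A_i)` -/
noncomputable abbrev σ : (∐ fun i => (L f).obj (A i)) ⟶ (L f).obj (∐ A) :=
  sigmaComparison (L f) A

lemma σ_π (i : ι) :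
    σ f A ≫ (L f).map (Sigma.π A i) = Sigma.π (fun i => (L f).obj (A i)) i := by
  apply Sigma.hom_ext
  intro j
  rw [← Category.assoc, ι_comp_sigmaComparison, ← CategoryTheory.Functor.map_comp]
  by_cases h : j = i
  · subst h
    rw [Sigma.ι_π_eq_id, Sigma.ι_π_eq_id, CategoryTheory.Functor.map_id]
  · rw [Sigma.ι_π_of_ne _ h, Sigma.ι_π_of_ne _ h, Functor.map_zero]

lemma σ_π_apply (i : ι) (V : Y.Etale)
    (u : EtCoh.sect (∐ fun i => (L f).obj (A i)) V) :
    ((L f).map (Sigma.π A i)).hom.app (op V) ((σ f A).hom.app (op V) u) =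
      prS (fun i => (L f).obj (A i)) i V u := by
  have := congrArg (fun φ : (∐ fun i => (L f).obj (A i)) ⟶ (L f).obj (A i) =>
    φ.hom.app (op V) u) (σ_π f A i)
  exact this

instance mono_σ : Mono (σ f A) := by
  haveI : Mono (σ f A).hom := by
    apply mono_of_injective_app
    intro V
    obtain ⟨V⟩ := V
    rw [injective_iff_map_eq_zero]
    intro u hu
    apply eq_zero_of_prS_eq_zero (fun i => (L f).obj (A i)) V u
    intro i
    rw [← σ_π_apply, hu, map_zero]
  exact (sheafToPresheaf _ _).mono_of_mono_map (inferInstanceAs (Mono (σ f A).hom))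

set_option backward.isDefEq.respectTransparency.types false in
set_option backward.isDefEq.respectTransparency false in
/-- over a quasi-compact base, the comparison map is surjective on sections -/
theorem exists_preimage_of_compact (V : Y.Etale) [CompactSpace V.left]
    (t : shriekSubgroup f (∐ A) V) :
    ∃ u : EtCoh.sect (∐ fun i => (L f).obj (A i)) V, (σ f A).hom.app (op V) u = t := by
  set W := (EtCoh.bc f).obj V with hW
  set T := sectSupp (∐ A) W t.1 with hT
  have hTp : ClSub.IsProperOver (prV f V) T := (mem_shriekSubgroup_iff' f (∐ A) V t.1).1 t.2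
  have hTc : IsCompact T := isCompact_of_isProperOver (prV f V) T hTp
  have hloc : ∀ x : W.left, ∃ (Wx : X.Etale) (g : Wx ⟶ W) (s : Finset ι),
      x ∈ Set.range g.left ∧ ∀ i, i ∉ s → prS A i Wx ((∐ A).obj.map g.op t.1) = 0 := by
    intro x
    obtain ⟨Wx, g, hg, hx⟩ := EtGlue.exists_arrow_of_mem _ (finSieve_mem A W t.1) x
    obtain ⟨s, -, h2⟩ := hg
    exact ⟨Wx, g, s, hx, h2⟩
  choose Wx g s hx hs using hloc
  obtain ⟨F0, hF0⟩ := hTc.elim_finite_subcover (fun x => Set.range (g x).left)
    (fun x => (g x).left.isOpenMap.isOpen_range) (fun x _ => Set.mem_iUnion.2 ⟨x, hx x⟩)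
  let S : Finset ι := F0.biUnion s
  have hzero : ∀ i, i ∉ S → prS A i W t.1 = 0 := by
    intro i hi
    apply eq_zero_of_sectSupp_eq_empty
    ext x
    simp only [Set.mem_empty_iff_false, iff_false]
    intro hxs
    have hxT : x ∈ T := EtShriek.sectSupp_map_subset (Sigma.π A i) W t.1 hxs
    obtain ⟨x0, hx0, hxr⟩ := Set.mem_iUnion₂.1 (hF0 hxT)
    have hi0 : i ∉ s x0 := fun h => hi (Finset.mem_biUnion.2 ⟨x0, hx0, h⟩)
    obtain ⟨w, hw⟩ := hxr
    apply hxs (Wx x0) (g x0) ⟨w, hw⟩
    have := prS_map A i (g x0) t.1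
    rw [hs x0 i hi0] at this
    exact this
  have hmem : ∀ i, prS A i W t.1 ∈ shriekSubgroup f (A i) V := by
    intro i
    rw [mem_shriekSubgroup_iff']
    exact isProperOver_of_subset _ (EtShriek.sectSupp_map_subset (Sigma.π A i) W t.1)
      (isClosed_sectSupp _ _ _) hTp
  let w : ∀ i, shriekSubgroup f (A i) V := fun i => ⟨prS A i W t.1, hmem i⟩
  refine ⟨∑ i ∈ S, inS (fun i => (L f).obj (A i)) i V (w i), ?_⟩
  set u := ∑ i ∈ S, inS (fun i => (L f).obj (A i)) i V (w i) with hu
  have hpr : ∀ i, prS (fun i => (L f).obj (A i)) i V u = if i ∈ S then w i else 0 := by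
    intro i
    rw [hu, map_sum]
    by_cases hi : i ∈ S
    · rw [if_pos hi, Finset.sum_eq_single i]
      · exact prS_inS_self (fun i => (L f).obj (A i)) i V (w i)
      · intro j _ hji
        exact prS_inS_of_ne (fun i => (L f).obj (A i)) hji V (w j)
      · intro h; exact absurd hi h
    · rw [if_neg hi]
      refine Finset.sum_eq_zero (fun j hj => ?_)
      have hji : j ≠ i := fun h => hi (h ▸ hj)
      exact prS_inS_of_ne (fun i => (L f).obj (A i)) hji V (w j)
  apply Subtype.ext
  rw [← sub_eq_zero]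
  apply eq_zero_of_prS_eq_zero A W
  intro i
  rw [map_sub, sub_eq_zero]
  have h1 : prS A i W (((σ f A).hom.app (op V) u : shriekSubgroup f (∐ A) V)).1 =
      ((prS (fun i => (L f).obj (A i)) i V u : shriekSubgroup f (A i) V)).1 := by
    rw [← σ_π_apply]
    rfl
  rw [h1, hpr i]
  by_cases hi : i ∈ S
  · rw [if_pos hi]
  · rw [if_neg hi, hzero i hi]
    rfl

set_option backward.isDefEq.respectTransparency.types false in
set_option backward.isDefEq.respectTransparency false in
instance epi_σ : Epi (σ f A) := by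
  refine (Sheaf.isLocallySurjective_iff_epi' AddCommGrpCat.{u+1} (σ f A)).1 ⟨?_⟩
  intro V t
  apply EtGlue.sieve_mem_of_forall_point
  intro y
  obtain ⟨V₀, hV₀, hyV₀, -⟩ :=
    exists_isAffineOpen_mem_and_subset (x := y) (U := (⊤ : V.left.Opens)) trivial
  haveI : CompactSpace (EtGlue.opn V V₀).left := isCompact_iff_compactSpace.mp hV₀.isCompact
  obtain ⟨u, hu⟩ := exists_preimage_of_compact f A (EtGlue.opn V V₀)
    (((L f).obj (∐ A)).obj.map (EtGlue.opnι V V₀).op t)
  exact ⟨EtGlue.opn V V₀, EtGlue.opnι V V₀, ⟨u, hu⟩, ⟨⟨y, hyV₀⟩, rfl⟩⟩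

instance isIso_σ : IsIso (σ f A) := isIso_of_mono_of_epi _

instance preservesCoproduct_L : PreservesColimit (Discrete.functor A) (L f) :=
  PreservesCoproduct.of_iso_comparison (L f) A

instance preservesCoproducts_L : PreservesColimitsOfShape (Discrete ι) (L f) where
  preservesColimit {K} :=
    preservesColimit_of_iso_diagram (L f) (Discrete.natIsoFunctor (F := K)).symm

/-- `f_!` commutes with direct sums -/
theorem preservesCoproducts_lowerShriek :
    PreservesColimitsOfShape (Discrete ι) (lowerShriek f) :=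
  preservesColimitsOfShape_of_natIso (LIso f).symm

end Groth.Agent.Lib.Helper23.ShriekW
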