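import Groth.Prelude.Def_EtTens2
import Mathlib.CategoryTheory.Sites.Point.Basic

/-!
# The fibre of a pointwise tensor product of presheaves of abelian groups at a point of a site
-/

set_option autoImplicit false

namespace Groth.Agent.Lib.Helper23.Shriek.TensFiber

open CategoryTheory Opposite Limits GrothendieckTopology TensorProduct

universe w w' v u

variable {C : Type u} [Category.{v} C] {J : GrothendieckTopology C} (Φ : Point.{w} J)
  [LocallySmall.{w} C]
  [HasColimitsOfSize.{w, w} AddCommGrpCat.{w'}]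
  [PreservesFilteredColimitsOfSize.{w, w} (forget AddCommGrpCat.{w'})]
  (P Q : Cᵒᵖ ⥤ AddCommGrpCat.{w'})

/-- the comparison from the fibre of the tensor product to the tensor product of the fibres -/
noncomputable def fibδ : Φ.presheafFiber.obj (EtTens.tensorObj P Q) ⟶
    AddCommGrpCat.of ((ToType (Φ.presheafFiber.obj P)) ⊗[ℤ] (ToType (Φ.presheafFiber.obj Q))) :=
  Φ.presheafFiberDesc
    (fun X x => AddCommGrpCat.ofHom
      (TensorProduct.map (Φ.toPresheafFiber X x P).hom.toIntLinearMap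
        (Φ.toPresheafFiber X x Q).hom.toIntLinearMap).toAddMonoidHom)
    (fun X Y f x => by
      apply EtTens.hom_ext_tmul
      intro m n
      change (TensorProduct.map _ _) ((EtTens.tensorObj P Q).map f.op (m ⊗ₜ n)) =
        (TensorProduct.map _ _) (m ⊗ₜ n)
      rw [EtTens.tensorObj_map_tmul, TensorProduct.map_tmul, TensorProduct.map_tmul]
      change Φ.toPresheafFiber X x P (P.map f.op m) ⊗ₜ Φ.toPresheafFiber X x Q (Q.map f.op n) =
        Φ.toPresheafFiber Y (Φ.fiber.map f x) P m ⊗ₜ Φ.toPresheafFiber Y (Φ.fiber.map f x) Q n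
      rw [Point.toPresheafFiber_w_apply, Point.toPresheafFiber_w_apply])

lemma fibδ_germ_tmul (X : C) (x : Φ.fiber.obj X) (p : P.obj (op X)) (q : Q.obj (op X)) :
    fibδ Φ P Q (Φ.toPresheafFiber X x (EtTens.tensorObj P Q) (p ⊗ₜ q)) =
      Φ.toPresheafFiber X x P p ⊗ₜ Φ.toPresheafFiber X x Q q := by
  have h := Φ.toPresheafFiber_presheafFiberDesc (P := EtTens.tensorObj P Q)
    (fun X x => AddCommGrpCat.ofHom
      (TensorProduct.map (Φ.toPresheafFiber X x P).hom.toIntLinearMap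
        (Φ.toPresheafFiber X x Q).hom.toIntLinearMap).toAddMonoidHom) (by
      intro X Y f x
      apply EtTens.hom_ext_tmul
      intro m n
      change (TensorProduct.map _ _) ((EtTens.tensorObj P Q).map f.op (m ⊗ₜ n)) =
        (TensorProduct.map _ _) (m ⊗ₜ n)
      rw [EtTens.tensorObj_map_tmul, TensorProduct.map_tmul, TensorProduct.map_tmul]
      change Φ.toPresheafFiber X x P (P.map f.op m) ⊗ₜ Φ.toPresheafFiber X x Q (Q.map f.op n) =
        Φ.toPresheafFiber Y (Φ.fiber.map f x) P m ⊗ₜ Φ.toPresheafFiber Y (Φ.fiber.map f x) Q n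
      rw [Point.toPresheafFiber_w_apply, Point.toPresheafFiber_w_apply]) X x
  have h2 := ConcreteCategory.congr_hom h (p ⊗ₜ q)
  rw [ConcreteCategory.comp_apply] at h2
  exact h2

variable {P} in
lemma germ_refine {X W : C} (x : Φ.fiber.obj X) (w : Φ.fiber.obj W) (a : W ⟶ X)
    (ha : Φ.fiber.map a w = x) (p : P.obj (op X)) :
    Φ.toPresheafFiber W w P (P.map a.op p) = Φ.toPresheafFiber X x P p := by
  rw [Point.toPresheafFiber_w_apply, ha]

variable {P Q} in
/-- germs of pure tensors only depend on the germs of the factors -/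
lemma germ_tmul_eq {X X' : C} (x : Φ.fiber.obj X) (x' : Φ.fiber.obj X')
    (p : P.obj (op X)) (q : Q.obj (op X)) (p' : P.obj (op X')) (q' : Q.obj (op X'))
    (hp : Φ.toPresheafFiber X x P p = Φ.toPresheafFiber X' x' P p')
    (hq : Φ.toPresheafFiber X x Q q = Φ.toPresheafFiber X' x' Q q') :
    Φ.toPresheafFiber X x (EtTens.tensorObj P Q) (p ⊗ₜ q) =
      Φ.toPresheafFiber X' x' (EtTens.tensorObj P Q) (p' ⊗ₜ q') := by
  let E : Φ.fiber.Elements := ⟨X, x⟩
  let E' : Φ.fiber.Elements := ⟨X', x'⟩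
  obtain ⟨W, w, c, c', hc, hc'⟩ : ∃ (W : C) (w : Φ.fiber.obj W) (c : W ⟶ X) (c' : W ⟶ X'),
      Φ.fiber.map c w = x ∧ Φ.fiber.map c' w = x' :=
    ⟨(IsCofiltered.min E E').1, (IsCofiltered.min E E').2,
      (IsCofiltered.minToLeft E E').1, (IsCofiltered.minToRight E E').1,
      (IsCofiltered.minToLeft E E').2, (IsCofiltered.minToRight E E').2⟩
  have hp2 : Φ.toPresheafFiber W w P (P.map c.op p) = Φ.toPresheafFiber W w P (P.map c'.op p') := by
    rw [germ_refine Φ x w c hc, germ_refine Φ x' w c' hc']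
    exact hp
  obtain ⟨Y₁, f₁, y₁, hy₁, e₁⟩ := (Φ.toPresheafFiber_eq_iff' W w _ _).1 hp2
  have hq2 : Φ.toPresheafFiber Y₁ y₁ Q (Q.map (f₁ ≫ c).op q) =
      Φ.toPresheafFiber Y₁ y₁ Q (Q.map (f₁ ≫ c').op q') := by
    rw [germ_refine Φ x y₁ (f₁ ≫ c) (by rw [Functor.map_comp_apply, hy₁, hc]),
      germ_refine Φ x' y₁ (f₁ ≫ c') (by rw [Functor.map_comp_apply, hy₁, hc'])]
    exact hq
  obtain ⟨Y₂, f₂, y₂, hy₂, e₂⟩ := (Φ.toPresheafFiber_eq_iff' Y₁ y₁ _ _).1 hq2
  have hx : Φ.fiber.map (f₂ ≫ f₁ ≫ c) y₂ = x := by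
    rw [Functor.map_comp_apply, Functor.map_comp_apply, hy₂, hy₁, hc]
  have hx' : Φ.fiber.map (f₂ ≫ f₁ ≫ c') y₂ = x' := by
    rw [Functor.map_comp_apply, Functor.map_comp_apply, hy₂, hy₁, hc']
  rw [← germ_refine Φ x y₂ (f₂ ≫ f₁ ≫ c) hx, ← germ_refine Φ x' y₂ (f₂ ≫ f₁ ≫ c') hx',
    EtTens.tensorObj_map_tmul, EtTens.tensorObj_map_tmul]
  have k1 : P.map (f₂ ≫ f₁ ≫ c).op p = P.map (f₂ ≫ f₁ ≫ c').op p' := by
    have := congrArg (P.map f₂.op) e₁
    simp only [← ConcreteCategory.comp_apply, ← Functor.map_comp, ← op_comp] at this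
    simpa only [Category.assoc] using this
  have k2 : Q.map (f₂ ≫ f₁ ≫ c).op q = Q.map (f₂ ≫ f₁ ≫ c').op q' := by
    have := e₂
    simp only [← ConcreteCategory.comp_apply, ← Functor.map_comp, ← op_comp] at this
    simpa only [Category.assoc] using this
  rw [k1, k2]

variable {P Q} in
lemma exists_common (z₁ : ToType (Φ.presheafFiber.obj P)) (z₂ : ToType (Φ.presheafFiber.obj Q)) :
    ∃ (X : C) (x : Φ.fiber.obj X) (p : P.obj (op X)) (q : Q.obj (op X)),
      Φ.toPresheafFiber X x P p = z₁ ∧ Φ.toPresheafFiber X x Q q = z₂ := by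
  obtain ⟨X₁, x₁, p, rfl⟩ := Φ.toPresheafFiber_jointly_surjective z₁
  obtain ⟨X₂, x₂, q, rfl⟩ := Φ.toPresheafFiber_jointly_surjective z₂
  let E : Φ.fiber.Elements := ⟨X₁, x₁⟩
  let E' : Φ.fiber.Elements := ⟨X₂, x₂⟩
  exact ⟨(IsCofiltered.min E E').1, (IsCofiltered.min E E').2,
    P.map (IsCofiltered.minToLeft E E').1.op p, Q.map (IsCofiltered.minToRight E E').1.op q,
    germ_refine Φ x₁ _ _ (IsCofiltered.minToLeft E E').2 p,
    germ_refine Φ x₂ _ _ (IsCofiltered.minToRight E E').2 q⟩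

variable {P Q} in
lemma exists_common₃ (z₁ z₁' : ToType (Φ.presheafFiber.obj P))
    (z₂ : ToType (Φ.presheafFiber.obj Q)) :
    ∃ (X : C) (x : Φ.fiber.obj X) (p p' : P.obj (op X)) (q : Q.obj (op X)),
      Φ.toPresheafFiber X x P p = z₁ ∧ Φ.toPresheafFiber X x P p' = z₁' ∧
        Φ.toPresheafFiber X x Q q = z₂ := by
  obtain ⟨X₁, x₁, p, p', rfl, rfl⟩ := Φ.toPresheafFiber_jointly_surjective₂ z₁ z₁'
  obtain ⟨X₂, x₂, q, rfl⟩ := Φ.toPresheafFiber_jointly_surjective z₂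
  let E : Φ.fiber.Elements := ⟨X₁, x₁⟩
  let E' : Φ.fiber.Elements := ⟨X₂, x₂⟩
  exact ⟨(IsCofiltered.min E E').1, (IsCofiltered.min E E').2,
    P.map (IsCofiltered.minToLeft E E').1.op p, P.map (IsCofiltered.minToLeft E E').1.op p',
    Q.map (IsCofiltered.minToRight E E').1.op q,
    germ_refine Φ x₁ _ _ (IsCofiltered.minToLeft E E').2 p,
    germ_refine Φ x₁ _ _ (IsCofiltered.minToLeft E E').2 p',
    germ_refine Φ x₂ _ _ (IsCofiltered.minToRight E E').2 q⟩

variable {P Q} in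
lemma exists_common₃' (z₁ : ToType (Φ.presheafFiber.obj P))
    (z₂ z₂' : ToType (Φ.presheafFiber.obj Q)) :
    ∃ (X : C) (x : Φ.fiber.obj X) (p : P.obj (op X)) (q q' : Q.obj (op X)),
      Φ.toPresheafFiber X x P p = z₁ ∧ Φ.toPresheafFiber X x Q q = z₂ ∧
        Φ.toPresheafFiber X x Q q' = z₂' := by
  obtain ⟨X₁, x₁, p, rfl⟩ := Φ.toPresheafFiber_jointly_surjective z₁
  obtain ⟨X₂, x₂, q, q', rfl, rfl⟩ := Φ.toPresheafFiber_jointly_surjective₂ z₂ z₂'
  let E : Φ.fiber.Elements := ⟨X₁, x₁⟩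
  let E' : Φ.fiber.Elements := ⟨X₂, x₂⟩
  exact ⟨(IsCofiltered.min E E').1, (IsCofiltered.min E E').2,
    P.map (IsCofiltered.minToLeft E E').1.op p, Q.map (IsCofiltered.minToRight E E').1.op q,
    Q.map (IsCofiltered.minToRight E E').1.op q',
    germ_refine Φ x₁ _ _ (IsCofiltered.minToLeft E E').2 p,
    germ_refine Φ x₂ _ _ (IsCofiltered.minToRight E E').2 q,
    germ_refine Φ x₂ _ _ (IsCofiltered.minToRight E E').2 q'⟩

/-- the germ of the tensor of representatives of two germs -/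
noncomputable def pairGerm (z₁ : ToType (Φ.presheafFiber.obj P))
    (z₂ : ToType (Φ.presheafFiber.obj Q)) :
    ToType (Φ.presheafFiber.obj (EtTens.tensorObj P Q)) :=
  Φ.toPresheafFiber (exists_common Φ z₁ z₂).choose (exists_common Φ z₁ z₂).choose_spec.choose
    (EtTens.tensorObj P Q)
    ((exists_common Φ z₁ z₂).choose_spec.choose_spec.choose ⊗ₜ
      (exists_common Φ z₁ z₂).choose_spec.choose_spec.choose_spec.choose)

lemma pairGerm_germ (X : C) (x : Φ.fiber.obj X) (p : P.obj (op X)) (q : Q.obj (op X)) :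
    pairGerm Φ P Q (Φ.toPresheafFiber X x P p) (Φ.toPresheafFiber X x Q q) =
      Φ.toPresheafFiber X x (EtTens.tensorObj P Q) (p ⊗ₜ q) := by
  have h := (exists_common Φ (Φ.toPresheafFiber X x P p)
    (Φ.toPresheafFiber X x Q q)).choose_spec.choose_spec.choose_spec.choose_spec
  exact germ_tmul_eq Φ _ x _ _ p q h.1 h.2

lemma pairGerm_add_left (z₁ z₁' : ToType (Φ.presheafFiber.obj P))
    (z₂ : ToType (Φ.presheafFiber.obj Q)) :
    pairGerm Φ P Q (z₁ + z₁') z₂ = pairGerm Φ P Q z₁ z₂ + pairGerm Φ P Q z₁' z₂ := by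
  obtain ⟨X, x, p, p', q, rfl, rfl, rfl⟩ := exists_common₃ Φ z₁ z₁' z₂
  rw [← map_add, pairGerm_germ, pairGerm_germ, pairGerm_germ, TensorProduct.add_tmul]
  exact (Φ.toPresheafFiber X x (EtTens.tensorObj P Q)).hom.map_add _ _

lemma pairGerm_add_right (z₁ : ToType (Φ.presheafFiber.obj P))
    (z₂ z₂' : ToType (Φ.presheafFiber.obj Q)) :
    pairGerm Φ P Q z₁ (z₂ + z₂') = pairGerm Φ P Q z₁ z₂ + pairGerm Φ P Q z₁ z₂' := by
  obtain ⟨X, x, p, q, q', rfl, rfl, rfl⟩ := exists_common₃' Φ z₁ z₂ z₂'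
  rw [← map_add, pairGerm_germ, pairGerm_germ, pairGerm_germ, TensorProduct.tmul_add]
  exact (Φ.toPresheafFiber X x (EtTens.tensorObj P Q)).hom.map_add _ _

/-- the biadditive pairing of germs -/
noncomputable def pairHom : ToType (Φ.presheafFiber.obj P) →+ ToType (Φ.presheafFiber.obj Q) →+
    ToType (Φ.presheafFiber.obj (EtTens.tensorObj P Q)) :=
  AddMonoidHom.mk' (fun z₁ => AddMonoidHom.mk' (fun z₂ => pairGerm Φ P Q z₁ z₂)
    (pairGerm_add_right Φ P Q z₁)) (by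
      intro a b
      ext z₂
      exact pairGerm_add_left Φ P Q a b z₂)

/-- the inverse comparison -/
noncomputable def fibL : (ToType (Φ.presheafFiber.obj P)) ⊗[ℤ] (ToType (Φ.presheafFiber.obj Q)) →+
    ToType (Φ.presheafFiber.obj (EtTens.tensorObj P Q)) :=
  TensorProduct.liftAddHom (pairHom Φ P Q) (by
    intro r m n
    rw [map_zsmul, AddMonoidHom.smul_apply, map_zsmul])

lemma fibL_germ_tmul (X : C) (x : Φ.fiber.obj X) (p : P.obj (op X)) (q : Q.obj (op X)) :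
    fibL Φ P Q (Φ.toPresheafFiber X x P p ⊗ₜ Φ.toPresheafFiber X x Q q) =
      Φ.toPresheafFiber X x (EtTens.tensorObj P Q) (p ⊗ₜ q) :=
  pairGerm_germ Φ P Q X x p q

lemma fibδ_fibL (w : (ToType (Φ.presheafFiber.obj P)) ⊗[ℤ] (ToType (Φ.presheafFiber.obj Q))) :
    fibδ Φ P Q (fibL Φ P Q w) = w := by
  induction w using TensorProduct.induction_on with
  | zero => rw [map_zero, map_zero]
  | tmul z₁ z₂ =>
    obtain ⟨X, x, p, q, rfl, rfl⟩ := exists_common Φ z₁ z₂
    rw [fibL_germ_tmul, fibδ_germ_tmul]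
  | add a b ha hb => rw [map_add, map_add, ha, hb]

lemma fibδ_comp_fibL : fibδ Φ P Q ≫ AddCommGrpCat.ofHom (fibL Φ P Q) = 𝟙 _ := by
  apply Φ.presheafFiber_hom_ext
  intro X x
  rw [Category.comp_id]
  apply EtTens.hom_ext_tmul
  intro p q
  change fibL Φ P Q (fibδ Φ P Q (Φ.toPresheafFiber X x (EtTens.tensorObj P Q) (p ⊗ₜ q))) = _
  rw [fibδ_germ_tmul, fibL_germ_tmul]
  rfl

lemma fibL_fibδ (t : ToType (Φ.presheafFiber.obj (EtTens.tensorObj P Q))) :
    fibL Φ P Q (fibδ Φ P Q t) = t :=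
  ConcreteCategory.congr_hom (fibδ_comp_fibL Φ P Q) t

lemma fibL_bijective : Function.Bijective (fibL Φ P Q) :=
  ⟨Function.LeftInverse.injective (fibδ_fibL Φ P Q),
    Function.RightInverse.surjective (fibL_fibδ Φ P Q)⟩

end Groth.Agent.Lib.Helper23.Shriek.TensFiber
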