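import Groth.Agent.Lib.Helper23.Shriek.QfStalk
import Groth.Agent.Lib.Helper23.Shriek.TensFiber
import Groth.Agent.Lib.Helper23.FinBC0

/-!
# The projection map `f_! F ⊗ G ⟶ f_! (F ⊗ f⁻¹ G)` on the presheaf level
-/

set_option autoImplicit false
universe u

namespace Groth.Agent.Lib.Helper23.Shriek.Proj

open CategoryTheory CategoryTheory.Limits AlgebraicGeometry Opposite EtShriek GrothendieckTopology
open TensorProduct
open Groth.Agent.Lib.Helper23 EtGlue EtSupp Groth.Agent.Lib.Helper9.ProperOver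
open Groth.Agent.Lib.Helper23.Shriek
open Groth.Agent.Lib.Helper23.EtStalkShriek (Lifts)
open Groth.Agent.Lib.Helper23.FinPushFiber (liftpt liftpt_map liftpt_left_fst liftpt_left_snd)

variable {X Y : Scheme.{u}} (f : X ⟶ Y) (F : EtCoh.Ab X) (G : EtCoh.Ab Y)

/-- the pulled back sheaf -/
noncomputable abbrev H : EtCoh.Ab X := (EtCoh.pull f).obj G

/-- the tensor product sheaf `F ⊗ f⁻¹ G` -/
noncomputable abbrev K : EtCoh.Ab X := (EtTens.tensorBi.obj F).obj (H f G)

/-- the sheafification map of the tensor product -/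
noncomputable def tsh : EtTens.tensorObj F.obj (H f G).obj ⟶ (K f F G).obj :=
  CategoryTheory.toSheafify X.smallEtaleTopology (EtTens.tensorObj F.obj (H f G).obj)

lemma tsh_naturality_apply {U W : X.Etale} (g : W ⟶ U) (s : EtCoh.sect F U)
    (a : EtCoh.sect (H f G) U) :
    (K f F G).obj.map g.op ((tsh f F G).app (op U) (s ⊗ₜ a)) =
      (tsh f F G).app (op W) (F.obj.map g.op s ⊗ₜ (H f G).obj.map g.op a) := by
  have h := ConcreteCategory.congr_hom ((tsh f F G).naturality g.op) (s ⊗ₜ a)
  rw [ConcreteCategory.comp_apply, ConcreteCategory.comp_apply] at h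
  exact h.symm

/-- the support of a pure tensor lies in the support of the first factor -/
lemma sectSupp_tsh_subset (U : X.Etale) (s : EtCoh.sect F U) (a : EtCoh.sect (H f G) U) :
    sectSupp (K f F G) U ((tsh f F G).app (op U) (s ⊗ₜ a)) ⊆ sectSupp F U s := by
  intro x hx
  by_contra hcon
  obtain ⟨W, g, hw, hg⟩ := (not_mem_sectSupp_iff F U s x).1 hcon
  apply hx W g hw
  rw [tsh_naturality_apply, hg, TensorProduct.zero_tmul]
  exact ((tsh f F G).app (op W)).hom.map_zero

variable [LocallyOfFiniteType f]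

/-- the unit `G ⟶ f_* f⁻¹ G` on sections -/
noncomputable abbrev uV (V : Y.Etale) :
    G.obj.obj (op V) ⟶ (H f G).obj.obj (op ((EtCoh.bc f).obj V)) :=
  FinBC0.secMap f (FinBC0.unitG f G) V

/-- the projection map on sections, with values in all sections -/
noncomputable def ψV (V : Y.Etale) :
    (shriekSubgroup f F V) ⊗[ℤ] (G.obj.obj (op V)) →+
      (K f F G).obj.obj (op ((EtCoh.bc f).obj V)) :=
  ((tsh f F G).app (op ((EtCoh.bc f).obj V))).hom.comp
    (TensorProduct.map (shriekSubgroup f F V).subtype.toIntLinearMap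
      (uV f G V).hom.toIntLinearMap).toAddMonoidHom

lemma ψV_tmul (V : Y.Etale) (s : shriekSubgroup f F V) (g : G.obj.obj (op V)) :
    ψV f F G V (s ⊗ₜ g) =
      (tsh f F G).app (op ((EtCoh.bc f).obj V)) (s.1 ⊗ₜ uV f G V g) := rfl

lemma ψV_mem (V : Y.Etale) (w : (shriekSubgroup f F V) ⊗[ℤ] (G.obj.obj (op V))) :
    ψV f F G V w ∈ shriekSubgroup f (K f F G) V := by
  induction w using TensorProduct.induction_on with
  | zero =>
    rw [map_zero]
    exact AddSubgroup.zero_mem _
  | tmul s g =>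
    rw [ψV_tmul, mem_shriekSubgroup_iff']
    refine isProperOver_of_subset _ (sectSupp_tsh_subset f F G _ s.1 _)
      (isClosed_sectSupp _ _ _) ?_
    exact (mem_shriekSubgroup_iff' f F V s.1).1 s.2
  | add a b ha hb =>
    rw [map_add]
    exact AddSubgroup.add_mem _ ha hb

/-- the projection map on the presheaf level -/
noncomputable def φ₀ : EtTens.tensorObj (lowerShriekPre f F) G.obj ⟶
    lowerShriekPre f (K f F G) where
  app V := AddCommGrpCat.ofHom ((ψV f F G V.unop).codRestrict
    (shriekSubgroup f (K f F G) V.unop) (ψV_mem f F G V.unop))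
  naturality {V V'} k := by
    apply EtTens.hom_ext_tmul
    intro s g
    apply Subtype.ext
    change ((tsh f F G).app (op ((EtCoh.bc f).obj V'.unop)))
        ((F.obj.map ((EtCoh.bc f).map k.unop).op s.1) ⊗ₜ (uV f G V'.unop (G.obj.map k g))) =
      (K f F G).obj.map ((EtCoh.bc f).map k.unop).op
        ((tsh f F G).app (op ((EtCoh.bc f).obj V.unop)) (s.1 ⊗ₜ uV f G V.unop g))
    rw [tsh_naturality_apply]
    have h := ConcreteCategory.congr_hom
      (FinBC0.secMap_naturality f (FinBC0.unitG f G) k.unop) g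
    rw [ConcreteCategory.comp_apply, ConcreteCategory.comp_apply] at h
    rw [← h]
    rfl

lemma φ₀_app_tmul (V : Y.Etale) (s : shriekSubgroup f F V) (g : G.obj.obj (op V)) :
    (((φ₀ f F G).app (op V) (s ⊗ₜ g) : shriekSubgroup f (K f F G) V)).1 =
      (tsh f F G).app (op ((EtCoh.bc f).obj V)) (s.1 ⊗ₜ uV f G V g) := rfl

end Groth.Agent.Lib.Helper23.Shriek.Proj
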