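import Groth.Agent.Lib.Helper23.Shriek.CoprodRecog
import Mathlib.LinearAlgebra.TensorProduct.Map

/-!
# Tensoring a recognised coproduct of abelian groups; bijectivity through coordinates
-/

set_option autoImplicit false
universe v w

namespace Groth.Agent.Lib.Helper23.Shriek

open CategoryTheory CategoryTheory.Limits TensorProduct

section Tensor

variable {ι : Type v} (S : AddCommGrpCat.{w}) (M : ι → AddCommGrpCat.{w})
  (r : ∀ i, S ⟶ M i)
  (hinj : ∀ z : S, (∀ i, r i z = 0) → z = 0)
  (hfin : ∀ z : S, {i | r i z ≠ 0}.Finite)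
  (hsurj : ∀ (i : ι) (a : M i), ∃ z : S, r i z = a ∧ ∀ j, j ≠ i → r j z = 0)
  (A : Type w) [AddCommGroup A]

/-- the coordinates of the tensor product -/
noncomputable def rA (i : ι) : (S ⊗[ℤ] A) →+ ((M i) ⊗[ℤ] A) :=
  (TensorProduct.map (r i).hom.toIntLinearMap (LinearMap.id : A →ₗ[ℤ] A)).toAddMonoidHom

lemma rA_tmul (i : ι) (z : S) (a : A) : rA S M r A i (z ⊗ₜ a) = r i z ⊗ₜ a := rfl

/-- the elementary homomorphisms of the tensor product -/
noncomputable def eA (i : ι) : ((M i) ⊗[ℤ] A) →+ (S ⊗[ℤ] A) :=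
  (TensorProduct.map (elemHom S M r hinj hsurj i).toIntLinearMap
    (LinearMap.id : A →ₗ[ℤ] A)).toAddMonoidHom

lemma eA_tmul (i : ι) (m : M i) (a : A) :
    eA S M r hinj hsurj A i (m ⊗ₜ a) = elemHom S M r hinj hsurj i m ⊗ₜ a := rfl

lemma rA_eA_self (i : ι) (b : (M i) ⊗[ℤ] A) :
    rA S M r A i (eA S M r hinj hsurj A i b) = b := by
  induction b using TensorProduct.induction_on with
  | zero => rw [map_zero, map_zero]
  | tmul m a => rw [eA_tmul, rA_tmul, elemHom_self]
  | add x y hx hy => rw [map_add, map_add, hx, hy]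

lemma rA_eA_of_ne (i j : ι) (hj : j ≠ i) (b : (M i) ⊗[ℤ] A) :
    rA S M r A j (eA S M r hinj hsurj A i b) = 0 := by
  induction b using TensorProduct.induction_on with
  | zero => rw [map_zero, map_zero]
  | tmul m a => rw [eA_tmul, rA_tmul, elemHom_of_ne S M r hinj hsurj i m j hj, TensorProduct.zero_tmul]
  | add x y hx hy => rw [map_add, map_add, hx, hy, add_zero]

include hfin in
lemma elem_decomp (z : S) (J : Finset ι) (hJ : {i | r i z ≠ 0} ⊆ ↑J) :
    z = ∑ i ∈ J, elemHom S M r hinj hsurj i (r i z) := by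
  have h1 := eq_finsum_elem S M r hinj hfin hsurj z
  rw [finsum_eq_sum_of_support_subset] at h1
  · exact h1
  · intro i hi
    apply hJ
    simp only [Function.mem_support, ne_eq] at hi
    intro h0
    apply hi
    rw [h0, map_zero]

include hfin in
/-- every tensor is the finite sum of its elementary components -/
lemma tensor_decomp (w : S ⊗[ℤ] A) :
    ∃ I : Finset ι, ∀ J : Finset ι, I ⊆ J →
      w = ∑ i ∈ J, eA S M r hinj hsurj A i (rA S M r A i w) := by
  classical
  induction w using TensorProduct.induction_on with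
  | zero =>
    refine ⟨∅, fun J _ => ?_⟩
    simp only [map_zero, Finset.sum_const_zero]
  | tmul z a =>
    refine ⟨(hfin z).toFinset, fun J hJ => ?_⟩
    have hz := elem_decomp S M r hinj hfin hsurj z J (by
      intro i hi
      apply hJ
      exact (Set.Finite.mem_toFinset _).2 hi)
    conv_lhs => rw [hz]
    rw [TensorProduct.sum_tmul]
    rfl
  | add x y hx hy =>
    obtain ⟨I₁, h₁⟩ := hx
    obtain ⟨I₂, h₂⟩ := hy
    refine ⟨I₁ ∪ I₂, fun J hJ => ?_⟩
    have e₁ := h₁ J (Finset.union_subset_left hJ)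
    have e₂ := h₂ J (Finset.union_subset_right hJ)
    conv_lhs => rw [e₁, e₂]
    rw [← Finset.sum_add_distrib]
    refine Finset.sum_congr rfl (fun i _ => ?_)
    rw [map_add, map_add]

include hinj hfin hsurj in
lemma rA_inj (w : S ⊗[ℤ] A) (hw : ∀ i, rA S M r A i w = 0) : w = 0 := by
  obtain ⟨I, hI⟩ := tensor_decomp S M r hinj hfin hsurj A w
  rw [hI I subset_rfl]
  refine Finset.sum_eq_zero (fun i _ => ?_)
  rw [hw i, map_zero]

include hinj hsurj in
lemma rA_surj (i : ι) (b : (M i) ⊗[ℤ] A) :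
    ∃ w : S ⊗[ℤ] A, rA S M r A i w = b ∧ ∀ j, j ≠ i → rA S M r A j w = 0 :=
  ⟨eA S M r hinj hsurj A i b, rA_eA_self S M r hinj hsurj A i b,
    fun j hj => rA_eA_of_ne S M r hinj hsurj A i j hj b⟩

end Tensor

section Bij

variable {ι : Type v} {S T : Type*} [AddCommGroup S] [AddCommGroup T]
  {M N : ι → Type*} [∀ i, AddCommGroup (M i)] [∀ i, AddCommGroup (N i)]
  (r : ∀ i, S →+ M i) (ρ : ∀ i, T →+ N i)
  (hinjS : ∀ z : S, (∀ i, r i z = 0) → z = 0)
  (hsurjS : ∀ (i : ι) (a : M i), ∃ z : S, r i z = a ∧ ∀ j, j ≠ i → r j z = 0)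
  (hinjT : ∀ t : T, (∀ i, ρ i t = 0) → t = 0)
  (hfinT : ∀ t : T, {i | ρ i t ≠ 0}.Finite)
  (θ : ∀ i, M i →+ N i) (hθ : ∀ i, Function.Bijective (θ i))
  (ψ : S →+ T) (hψ : ∀ i z, ρ i (ψ z) = θ i (r i z))

include hinjS hsurjS hinjT hfinT hθ hψ in
/-- a homomorphism which is bijective on coordinates is bijective -/
theorem bijective_of_coords : Function.Bijective ψ := by
  classical
  constructor
  · rw [injective_iff_map_eq_zero]
    intro z hz
    apply hinjS
    intro i
    apply (hθ i).1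
    rw [← hψ, hz, map_zero, map_zero]
  · intro t
    choose el hel1 hel2 using hsurjS
    let I := (hfinT t).toFinset
    let inv : ∀ i, N i → M i := fun i => Function.surjInv (hθ i).2
    refine ⟨∑ i ∈ I, el i (inv i (ρ i t)), ?_⟩
    rw [← sub_eq_zero]
    apply hinjT
    intro j
    rw [map_sub, hψ, map_sum, sub_eq_zero]
    by_cases hj : j ∈ I
    · rw [Finset.sum_eq_single j]
      · rw [hel1]
        exact Function.surjInv_eq (hθ j).2 _
      · intro i _ hij
        exact hel2 i _ j (Ne.symm hij)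
      · intro h
        exact absurd hj h
    · rw [Finset.sum_eq_zero]
      · rw [map_zero]
        have : ¬ (ρ j t ≠ 0) := fun h => hj ((Set.Finite.mem_toFinset _).2 h)
        exact (not_not.1 this).symm
      · intro i hi
        have hij : j ≠ i := fun h => hj (h ▸ hi)
        exact hel2 i _ j hij

end Bij

end Groth.Agent.Lib.Helper23.Shriek
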