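import Groth.Agent.Lib.Helper23.Shriek.ProjMap
import Groth.Agent.Lib.Helper23.Shriek.TensAlg

/-!
# The projection map is bijective on geometric stalks
-/

set_option autoImplicit false
universe u

namespace Groth.Agent.Lib.Helper23.Shriek.Proj

open CategoryTheory CategoryTheory.Limits AlgebraicGeometry Opposite EtShriek GrothendieckTopology
open TensorProduct
open Groth.Agent.Lib.Helper23 EtGlue EtSupp Groth.Agent.Lib.Helper9.ProperOver
open Groth.Agent.Lib.Helper23.Shriek
open Groth.Agent.Lib.Helper23.EtStalkShriek (Lifts)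
open Groth.Agent.Lib.Helper23.FinPushFiber (liftpt liftpt_map liftpt_left_fst liftpt_left_snd)

variable {X Y : Scheme.{u}} (f : X ⟶ Y) (F : EtCoh.Ab X) (G : EtCoh.Ab Y)

instance : Presheaf.IsLocallyInjective X.smallEtaleTopology (tsh f F G) := by
  unfold tsh
  exact (GrothendieckTopology.W_toSheafify _ _).isLocallyInjective

instance : Presheaf.IsLocallySurjective X.smallEtaleTopology (tsh f F G) := by
  unfold tsh
  exact (GrothendieckTopology.W_toSheafify _ _).isLocallySurjective

section Stk

variable {Ω : Type u} [Field Ω] [IsSepClosed Ω] (η : Spec (CommRingCat.of Ω) ⟶ Y)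

/-- the stalk map of a morphism `A ⟶ f_* B` at a point of the fibre -/
noncomputable def stkL {A : EtCoh.Ab Y} {B : EtCoh.Ab X} (γ : A ⟶ (EtCoh.push f).obj B)
    (ξ : Lifts f η) :
    (pX η).presheafFiber.obj A.obj ⟶ (pU f η ξ).presheafFiber.obj B.obj :=
  (pX η).presheafFiberDesc
    (fun V v => FinBC0.secMap f γ V ≫ (pU f η ξ).toPresheafFiber ((EtCoh.bc f).obj V)
      (liftpt ξ.1 ξ.2 V v) B.obj)
    (fun U V k x => by
      rw [← Category.assoc, FinBC0.secMap_naturality, Category.assoc, Point.toPresheafFiber_w,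
        liftpt_map])

lemma germ_stkL {A : EtCoh.Ab Y} {B : EtCoh.Ab X} (γ : A ⟶ (EtCoh.push f).obj B)
    (ξ : Lifts f η) (V : Y.Etale) (v : (pX η).fiber.obj V) (g : A.obj.obj (op V)) :
    stkL f η γ ξ ((pX η).toPresheafFiber V v A.obj g) =
      (pU f η ξ).toPresheafFiber ((EtCoh.bc f).obj V) (liftpt ξ.1 ξ.2 V v) B.obj
        (FinBC0.secMap f γ V g) := by
  have h := (pX η).toPresheafFiber_presheafFiberDesc (P := A.obj)
    (fun V v => FinBC0.secMap f γ V ≫ (pU f η ξ).toPresheafFiber ((EtCoh.bc f).obj V)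
      (liftpt ξ.1 ξ.2 V v) B.obj)
    (fun U V k x => by
      rw [← Category.assoc, FinBC0.secMap_naturality, Category.assoc, Point.toPresheafFiber_w,
        liftpt_map]) V v
  have h2 := ConcreteCategory.congr_hom h g
  rw [ConcreteCategory.comp_apply, ConcreteCategory.comp_apply] at h2
  exact h2

lemma isIso_stkL_unit (ξ : Lifts f η) : IsIso (stkL f η (FinBC0.unitG f G) ξ) := by
  obtain ⟨ξ₁, hξ⟩ := ξ
  subst hξ
  exact FinBC0.isIso_stk_unit f ξ₁ G

/-- the comparison of the coordinates -/
noncomputable def θ (ξ : Lifts f η) :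
    (ToType ((pU f η ξ).presheafFiber.obj F.obj)) ⊗[ℤ]
        (ToType ((pX η).presheafFiber.obj G.obj)) →+
      ToType ((pU f η ξ).presheafFiber.obj (K f F G).obj) :=
  ((pU f η ξ).presheafFiber.map (tsh f F G)).hom.comp
    ((TensFiber.fibL (pU f η ξ) F.obj (H f G).obj).comp
      (TensorProduct.map (LinearMap.id)
        (stkL f η (FinBC0.unitG f G) ξ).hom.toIntLinearMap).toAddMonoidHom)

lemma θ_bijective (ξ : Lifts f η) : Function.Bijective (θ f F G η ξ) := by
  have h1 : Function.Bijective ((pU f η ξ).presheafFiber.map (tsh f F G)).hom :=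
    (pU f η ξ).toPresheafFiber_map_bijective (tsh f F G)
  have h2 : Function.Bijective (TensFiber.fibL (pU f η ξ) F.obj (H f G).obj) :=
    TensFiber.fibL_bijective (pU f η ξ) F.obj (H f G).obj
  have h3 : Function.Bijective (TensorProduct.map (LinearMap.id :
      ToType ((pU f η ξ).presheafFiber.obj F.obj) →ₗ[ℤ] _)
        (stkL f η (FinBC0.unitG f G) ξ).hom.toIntLinearMap).toAddMonoidHom := by
    have := isIso_stkL_unit f G η ξ
    have h4 : Function.Bijective (stkL f η (FinBC0.unitG f G) ξ).hom.toIntLinearMap :=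
      ConcreteCategory.bijective_of_isIso (stkL f η (FinBC0.unitG f G) ξ)
    exact TensorProduct.map_bijective Function.bijective_id h4
  unfold θ
  rw [AddMonoidHom.coe_comp, AddMonoidHom.coe_comp]
  exact h1.comp (h2.comp h3)

end Stk

section Key

variable [LocallyOfFiniteType f] {Ω : Type u} [Field Ω] [IsSepClosed Ω]
  (η : Spec (CommRingCat.of Ω) ⟶ Y)

/-- the coordinates of the image of a germ of a pure tensor under the projection map -/
lemma key_formula (ξ : Lifts f η) (V : Y.Etale) (v : (pX η).fiber.obj V)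
    (s : shriekSubgroup f F V) (g : G.obj.obj (op V)) :
    rL f (K f F G) η ξ ((pX η).presheafFiber.map (φ₀ f F G)
      ((pX η).toPresheafFiber V v (EtTens.tensorObj (lowerShriekPre f F) G.obj) (s ⊗ₜ g))) =
    θ f F G η ξ (rL f F η ξ ((pX η).toPresheafFiber V v (lowerShriekPre f F) s) ⊗ₜ
      (pX η).toPresheafFiber V v G.obj g) := by
  rw [Point.toPresheafFiber_naturality_apply]
  erw [rL_germ f (K f F G) η ξ V v ((φ₀ f F G).app (op V) (s ⊗ₜ g)),
    rL_germ f F η ξ V v s]
  change _ = (pU f η ξ).presheafFiber.map (tsh f F G)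
    (TensFiber.fibL (pU f η ξ) F.obj (H f G).obj
      ((pU f η ξ).toPresheafFiber ((EtCoh.bc f).obj V) (liftpt ξ.1 ξ.2 V v) F.obj s.1 ⊗ₜ
        stkL f η (FinBC0.unitG f G) ξ ((pX η).toPresheafFiber V v G.obj g)))
  rw [germ_stkL, TensFiber.fibL_germ_tmul (pU f η ξ) F.obj (H f G).obj,
    Point.toPresheafFiber_naturality_apply]
  rfl

/-- the projection map on the stalk, on the tensor product of the stalks -/
noncomputable def ψη : (ToType (SL f F η)) ⊗[ℤ] (ToType ((pX η).presheafFiber.obj G.obj)) →+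
    ToType (SL f (K f F G) η) :=
  ((pX η).presheafFiber.map (φ₀ f F G)).hom.comp
    (TensFiber.fibL (pX η) (lowerShriekPre f F) G.obj)

lemma ψη_coord (ξ : Lifts f η)
    (w : (ToType (SL f F η)) ⊗[ℤ] (ToType ((pX η).presheafFiber.obj G.obj))) :
    rL f (K f F G) η ξ (ψη f F G η w) =
      θ f F G η ξ (rA (SL f F η) (fun ξ : Lifts f η => (pU f η ξ).presheafFiber.obj F.obj)
        (rL f F η) (ToType ((pX η).presheafFiber.obj G.obj)) ξ w) := by
  induction w using TensorProduct.induction_on with
  | zero => rw [map_zero, map_zero, map_zero, map_zero]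
  | tmul z a =>
    obtain ⟨V, v, s, g, rfl, rfl⟩ := TensFiber.exists_common (pX η) z a
    rw [rA_tmul]
    change rL f (K f F G) η ξ ((pX η).presheafFiber.map (φ₀ f F G)
      (TensFiber.fibL (pX η) (lowerShriekPre f F) G.obj _)) = _
    rw [TensFiber.fibL_germ_tmul (pX η) (lowerShriekPre f F) G.obj]
    exact key_formula f F G η ξ V v s g
  | add x y hx hy => rw [map_add, map_add, map_add, map_add, hx, hy]

end Key

section Bij

variable [LocallyOfFiniteType f] [IsSeparated f] [LocallyQuasiFinite f]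
  {Ω : Type u} [Field Ω] [IsAlgClosed Ω] (η : Spec (CommRingCat.of Ω) ⟶ Y)

lemma ψη_bijective : Function.Bijective (ψη f F G η) :=
  bijective_of_coords
    (rA (SL f F η) (fun ξ : Lifts f η => (pU f η ξ).presheafFiber.obj F.obj)
      (rL f F η) (ToType ((pX η).presheafFiber.obj G.obj)))
    (fun ξ : Lifts f η => (rL f (K f F G) η ξ).hom)
    (rA_inj (SL f F η) (fun ξ : Lifts f η => (pU f η ξ).presheafFiber.obj F.obj)
      (rL f F η) (eq_zero_of_rL_eq_zero f F η) (finite_rL_ne_zero f F η)
      (exists_elementary f F η) (ToType ((pX η).presheafFiber.obj G.obj)))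
    (rA_surj (SL f F η) (fun ξ : Lifts f η => (pU f η ξ).presheafFiber.obj F.obj)
      (rL f F η) (eq_zero_of_rL_eq_zero f F η)
      (exists_elementary f F η) (ToType ((pX η).presheafFiber.obj G.obj)))
    (eq_zero_of_rL_eq_zero f (K f F G) η) (finite_rL_ne_zero f (K f F G) η)
    (θ f F G η) (θ_bijective f F G η) (ψη f F G η) (fun ξ w => ψη_coord f F G η ξ w)

/-- the projection map is bijective on the stalks at algebraically closed geometric points -/
theorem fiber_φ₀_bijective :
    Function.Bijective ((pX η).presheafFiber.map (φ₀ f F G)) := by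
  have h1 := ψη_bijective f F G η
  have h2 : Function.Bijective (TensFiber.fibL (pX η) (lowerShriekPre f F) G.obj) :=
    TensFiber.fibL_bijective (pX η) (lowerShriekPre f F) G.obj
  unfold ψη at h1
  rw [AddMonoidHom.coe_comp] at h1
  exact (Function.Bijective.of_comp_iff _ h2).1 h1

end Bij

end Groth.Agent.Lib.Helper23.Shriek.Proj
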