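import Groth.Agent.Lib.Helper9.ProperOver4
import Mathlib.AlgebraicGeometry.Morphisms.UniversallyOpen
import Mathlib.AlgebraicGeometry.Morphisms.Etale

/-!
# Descent of properness along a jointly surjective family of flat, locally finitely presented maps
-/

set_option autoImplicit false
universe u

namespace Groth.Agent.Lib.Helper23.Shriek

open CategoryTheory CategoryTheory.Limits AlgebraicGeometry MorphismProperty

/-- properness descends along fppf morphisms -/
theorem isProper_of_isPullback_fppf {A T W V : Scheme.{u}} {fst : A ⟶ W} {snd : A ⟶ T}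
    {g : W ⟶ V} {k : T ⟶ V} (sq : IsPullback fst snd g k)
    [Surjective g] [Flat g] [LocallyOfFinitePresentation g] (h : IsProper fst) : IsProper k := by
  have hQ : (@Surjective ⊓ @Flat ⊓ @LocallyOfFinitePresentation : MorphismProperty Scheme.{u}) g :=
    ⟨⟨inferInstance, inferInstance⟩, inferInstance⟩
  have i1 : IsStableUnderBaseChange (C := Scheme.{u}) (@Surjective ⊓ @Flat) :=
    IsStableUnderBaseChange.inf
  have i2 : IsStableUnderBaseChange (C := Scheme.{u})
      (@Surjective ⊓ @Flat ⊓ @LocallyOfFinitePresentation) :=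
    IsStableUnderBaseChange.inf
  have h1 : UniversallyClosed k :=
    MorphismProperty.of_isPullback_of_descendsAlong (P := @UniversallyClosed)
      (Q := @Surjective ⊓ @Flat ⊓ @LocallyOfFinitePresentation) sq hQ inferInstance
  have h2 : LocallyOfFiniteType k :=
    MorphismProperty.of_isPullback_of_descendsAlong (P := @LocallyOfFiniteType)
      (Q := @Surjective ⊓ @Flat ⊓ @LocallyOfFinitePresentation) sq hQ inferInstance
  have i3 : RespectsIso (C := Scheme.{u}) @UniversallyClosed := universallyClosed_respectsIso
  have i4 : DescendsAlong (C := Scheme.{u}) @UniversallyClosed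
      (@Surjective ⊓ @Flat ⊓ @LocallyOfFinitePresentation) := inferInstance
  have i5 : DescendsAlong (C := Scheme.{u}) (MorphismProperty.diagonal @UniversallyClosed)
      (@Surjective ⊓ @Flat ⊓ @LocallyOfFinitePresentation) :=
    instDescendsAlongDiagonalOfRespectsIsoOfIsStableUnderBaseChange _ _
  have h3 : MorphismProperty.diagonal (@UniversallyClosed : MorphismProperty Scheme.{u}) k := by
    refine MorphismProperty.of_isPullback_of_descendsAlong
      (P := MorphismProperty.diagonal (@UniversallyClosed : MorphismProperty Scheme.{u}))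
      (Q := @Surjective ⊓ @Flat ⊓ @LocallyOfFinitePresentation) sq hQ ?_
    show UniversallyClosed (pullback.diagonal fst)
    have : IsClosedImmersion (pullback.diagonal fst) :=
      IsSeparated.isClosedImmersion_diagonal
    infer_instance
  have h4 : IsSeparated k :=
    Groth.Agent.Lib.Helper9.ProperOver.isSeparated_of_universallyClosed_diagonal k h3
  exact {}

set_option backward.isDefEq.respectTransparency.types false in
/-- properness descends along a jointly surjective family of flat, locally finitely presented
morphisms -/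
theorem isProper_of_family {T V : Scheme.{u}} (k : T ⟶ V) {ι : Type*} (W : ι → Scheme.{u})
    (g : ∀ i, W i ⟶ V) [∀ i, Flat (g i)] [∀ i, LocallyOfFinitePresentation (g i)]
    (hsurj : ∀ v : V, ∃ i, v ∈ Set.range (g i))
    (h : ∀ i, IsProper (pullback.snd k (g i))) : IsProper k := by
  let U : ι → V.Opens := fun i => ⟨Set.range (g i), (g i).isOpenMap.isOpen_range⟩
  have hU : iSup U = ⊤ := by
    refine top_le_iff.mp fun v _ => ?_
    obtain ⟨i, hi⟩ := hsurj v
    exact TopologicalSpace.Opens.mem_iSup.mpr ⟨i, hi⟩
  refine IsZariskiLocalAtTarget.of_iSup_eq_top (P := @IsProper) U hU fun i => ?_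
  -- the factorization of `g i` through its open image
  have hr : Set.range (g i) ⊆ Set.range (U i).ι := by
    rw [Scheme.Opens.range_ι]; exact subset_rfl
  let g' : W i ⟶ (U i).toScheme := IsOpenImmersion.lift (U i).ι (g i) hr
  have hg' : g' ≫ (U i).ι = g i := IsOpenImmersion.lift_fac _ _ _
  have hfl : Flat g' := by
    have : Flat (g' ≫ (U i).ι) := by rw [hg']; infer_instance
    exact MorphismProperty.of_postcomp (W := @Flat) (W' := @IsOpenImmersion) g' (U i).ι
      inferInstance this
  have hfp : LocallyOfFinitePresentation g' := by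
    have : LocallyOfFinitePresentation (g' ≫ (U i).ι) := by rw [hg']; infer_instance
    exact MorphismProperty.of_postcomp (W := @LocallyOfFinitePresentation)
      (W' := @IsOpenImmersion) g' (U i).ι inferInstance this
  have hsj : Surjective g' := by
    refine ⟨fun y => ?_⟩
    obtain ⟨w, hw⟩ : (U i).ι y ∈ Set.range (g i) := y.2
    refine ⟨w, ?_⟩
    apply (U i).ι.isOpenEmbedding.injective
    rw [← Scheme.Hom.comp_apply, hg']
    exact hw
  -- the lift of the projection to the preimage
  have hr2 : Set.range (pullback.fst k (g i)) ⊆ Set.range (k ⁻¹ᵁ (U i)).ι := by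
    rw [Scheme.Opens.range_ι]
    rintro _ ⟨a, rfl⟩
    show k (pullback.fst k (g i) a) ∈ U i
    rw [← Scheme.Hom.comp_apply, pullback.condition, Scheme.Hom.comp_apply]
    exact ⟨_, rfl⟩
  let l : pullback k (g i) ⟶ (k ⁻¹ᵁ (U i)).toScheme :=
    IsOpenImmersion.lift (k ⁻¹ᵁ (U i)).ι (pullback.fst k (g i)) hr2
  have hl : l ≫ (k ⁻¹ᵁ (U i)).ι = pullback.fst k (g i) := IsOpenImmersion.lift_fac _ _ _
  have hcomm : l ≫ (k ∣_ U i) = pullback.snd k (g i) ≫ g' := by
    rw [← cancel_mono (U i).ι, Category.assoc, Category.assoc, morphismRestrict_ι,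
      ← Category.assoc, hl, hg', pullback.condition]
  have big : IsPullback (l ≫ (k ⁻¹ᵁ (U i)).ι) (pullback.snd k (g i)) k (g' ≫ (U i).ι) := by
    rw [hl, hg']
    exact IsPullback.of_hasPullback k (g i)
  have sq : IsPullback l (pullback.snd k (g i)) (k ∣_ U i) g' :=
    IsPullback.of_right big hcomm (isPullback_morphismRestrict k (U i)).flip
  exact isProper_of_isPullback_fppf sq.flip (h i)

end Groth.Agent.Lib.Helper23.Shriek
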