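import Groth.Agent.Lib.Helper23.Shriek.QfStalk
import Groth.Agent.Lib.Helper23.Shriek.LeftExact
import Groth.Agent.Lib.Helper23.FinPushExact

/-!
# `f_!` is exact for a separated locally quasi-finite morphism
-/

set_option autoImplicit false
universe u

namespace Groth.Agent.Lib.Helper23.Shriek

open CategoryTheory CategoryTheory.Limits AlgebraicGeometry Opposite EtShriek GrothendieckTopology
open Groth.Agent.Lib.Helper23
open Groth.Agent.Lib.Helper23.EtStalkShriek (Lifts)

variable {X Y : Scheme.{u}} (f : X ⟶ Y) [LocallyOfFiniteType f] [IsSeparated f]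
  [LocallyQuasiFinite f]

attribute [local instance] Classical.decEq

set_option backward.isDefEq.respectTransparency.types false in
set_option backward.isDefEq.respectTransparency false in
/-- `f_!` preserves epimorphisms, on stalks -/
theorem stalk_L_map_surjective {F G : EtCoh.Ab X} (φ : F ⟶ G) [Epi φ]
    {Ω : Type u} [Field Ω] [IsAlgClosed Ω] (η : Spec (CommRingCat.of Ω) ⟶ Y)
    (z' : ToType (SL f G η)) :
    ∃ x : ToType (SL f F η),
      (pX η).presheafFiber.map ((lowerShriekPreFunctor f).map φ) x = z' := by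
  let T : Finset (Lifts f η) := (finite_rL_ne_zero f G η z').toFinset
  have hT : ∀ ξ, ξ ∉ T → rL f G η ξ z' = 0 := by
    intro ξ hξ
    by_contra hne
    exact hξ ((finite_rL_ne_zero f G η z').mem_toFinset.2 hne)
  have ha : ∀ ξ : Lifts f η, ∃ a : ToType ((pU f η ξ).presheafFiber.obj F.obj),
      (pU f η ξ).presheafFiber.map φ.hom a = rL f G η ξ z' :=
    fun ξ => FinPushExact.stalk_surjective_of_epi φ ξ.1 _
  choose a ha using ha
  choose e he1 he2 using fun ξ => exists_elementary f F η ξ (a ξ)
  refine ⟨∑ ξ ∈ T, e ξ, ?_⟩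
  rw [← sub_eq_zero]
  apply eq_zero_of_rL_eq_zero f G η
  intro ξ'
  rw [map_sub, rL_naturality, map_sum, sub_eq_zero]
  by_cases hξ' : ξ' ∈ T
  · rw [Finset.sum_eq_single ξ']
    · rw [he1, ha]
    · intro ξ _ hne
      exact he2 ξ ξ' (Ne.symm hne)
    · intro h
      exact (h hξ').elim
  · rw [Finset.sum_eq_zero, map_zero, hT ξ' hξ']
    intro ξ hξ
    have hne : ξ' ≠ ξ := fun h => hξ' (h ▸ hξ)
    exact he2 ξ ξ' hne

/-- `F ↦` (sections with proper support) preserves epimorphisms -/
theorem epi_L_map {F G : EtCoh.Ab X} (φ : F ⟶ G) [Epi φ] : Epi ((L f).map φ) := by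
  apply FinPushExact.epi_of_stalks
  intro Ω _ _ η z'
  exact stalk_L_map_surjective f φ η z'

instance additive_L : (L f).Additive where
  map_add := by
    intro F G α β
    apply Sheaf.hom_ext
    ext V ⟨s, hs⟩
    apply Subtype.ext
    rfl

/-- `F ↦` (sections with proper support) is exact -/
theorem exact_L : PreservesFiniteLimits (L f) ∧ PreservesFiniteColimits (L f) := by
  refine ((Functor.exact_tfae (L f)).out 0 3).1 ?_
  intro S hS
  have h0 : PreservesFiniteLimits (L f) := inferInstance
  have h1 := (Functor.preservesFiniteLimits_iff_forall_exact_map_and_mono (L f)).1 h0 S hS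
  haveI := hS.epi_g
  haveI : Mono (S.map (L f)).f := h1.2
  haveI : Epi (S.map (L f)).g := epi_L_map f S.g
  exact ⟨h1.1⟩

/-- `f_!` is exact -/
theorem exact_lowerShriek :
    PreservesFiniteLimits (lowerShriek f) ∧ PreservesFiniteColimits (lowerShriek f) := by
  obtain ⟨h1, h2⟩ := exact_L f
  exact ⟨preservesFiniteLimits_of_natIso (LIso f).symm,
    preservesFiniteColimits_of_natIso (LIso f).symm⟩

end Groth.Agent.Lib.Helper23.Shriek
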