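import Groth.Agent.Lib.Helper23.Shriek.PresCoprodW
import Groth.Agent.Lib.Helper23.Shriek.QfExact
import Mathlib.CategoryTheory.Adjunction.AdjointFunctorTheorems
import Mathlib.CategoryTheory.Abelian.Subobject
import Mathlib.CategoryTheory.Abelian.GrothendieckAxioms.Sheaf
import Mathlib.CategoryTheory.Abelian.GrothendieckCategory.Basic
import Mathlib.CategoryTheory.Limits.Constructions.LimitsOfProductsAndEqualizers
import Mathlib.Algebra.Category.Grp.AB

/-!
# `f_!` is a left adjoint for a separated locally quasi-finite morphism

By the special adjoint functor theorem: abelian étale sheaves form a Grothendieck abelian category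
and `f_!` commutes with all colimits.
-/

set_option autoImplicit false
universe u

namespace Groth.Agent.Lib.Helper23.Shriek

open CategoryTheory CategoryTheory.Limits AlgebraicGeometry Opposite EtShriek

variable {X Y : Scheme.{u}}

/-- abelian étale sheaves form a Grothendieck abelian category -/
instance isGrothendieckAbelian_Ab : IsGrothendieckAbelian.{u + 1} (EtCoh.Ab X) := by
  have : EssentiallySmall.{u + 1} X.Etale := inferInstance
  exact Sheaf.isGrothendieckAbelian_of_essentiallySmall (X.smallEtaleTopology)
    AddCommGrpCat.{u + 1}

/-- the special adjoint functor theorem for functors between categories of abelian étale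
sheaves -/
theorem isLeftAdjoint_of_preservesColimits (G : EtCoh.Ab X ⥤ EtCoh.Ab Y)
    [PreservesColimitsOfSize.{u + 1, u + 1} G] : G.IsLeftAdjoint := by
  have : WellPowered.{u + 1} (EtCoh.Ab X) := inferInstance
  have : WellPowered.{u + 1} (EtCoh.Ab X)ᵒᵖ := inferInstance
  have : HasSeparator (EtCoh.Ab X) := inferInstance
  exact isLeftAdjoint_of_preservesColimits_of_isSeparating
    (isSeparator_separator (EtCoh.Ab X)) G

variable (f : X ⟶ Y) [LocallyOfFiniteType f] [IsSeparated f] [LocallyQuasiFinite f]

/-- `f_!` commutes with all colimits -/
theorem preservesColimits_lowerShriek :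
    PreservesColimitsOfSize.{u + 1, u + 1} (lowerShriek f) := by
  haveI : PreservesFiniteColimits (lowerShriek f) := (exact_lowerShriek f).2
  haveI : ∀ J : Type (u + 1), PreservesColimitsOfShape (Discrete J) (lowerShriek f) :=
    fun J => ShriekW.preservesCoproducts_lowerShriek f
  exact preservesColimits_of_preservesCoequalizers_and_coproducts (lowerShriek f)

/-- `f_!` is a left adjoint -/
theorem isLeftAdjoint_lowerShriek : (lowerShriek f).IsLeftAdjoint := by
  haveI := preservesColimits_lowerShriek f
  exact isLeftAdjoint_of_preservesColimits (lowerShriek f)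

end Groth.Agent.Lib.Helper23.Shriek
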