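import Groth.Agent.Lib.Helper23.Shriek.LFunctor

/-!
# Supports of sections of the sheaf of sections with proper support
-/

set_option autoImplicit false
universe u

namespace Groth.Agent.Lib.Helper23.Shriek

open CategoryTheory CategoryTheory.Limits AlgebraicGeometry Opposite EtShriek
open Groth.Agent.Lib.Helper23 Groth.Agent.Lib.Helper9.ProperOver

/-- a section with empty support vanishes -/
lemma eq_zero_of_sectSupp_eq_empty {X : Scheme.{u}} (F : EtCoh.Ab X) (U : X.Etale)
    (s : EtCoh.sect F U) (h : sectSupp F U s = ∅) : s = 0 := by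
  apply EtSupp.eq_of_cover F U
  intro x
  have hx : x ∉ sectSupp F U s := by rw [h]; exact Set.notMem_empty x
  obtain ⟨W, g, hw, hg⟩ := (EtSupp.not_mem_sectSupp_iff F U s x).1 hx
  exact ⟨W, g, hw, by rw [hg, map_zero]⟩

variable {X Y : Scheme.{u}} (f : X ⟶ Y) [LocallyOfFiniteType f] (F : EtCoh.Ab X)

lemma L_map_apply {V V' : Y.Etale} (φ : V' ⟶ V) (t : shriekSubgroup f F V) :
    (((L f).obj F).obj.map φ.op t : shriekSubgroup f F V').1 =
      F.obj.map ((EtCoh.bc f).map φ).op t.1 := rfl

set_option backward.isDefEq.respectTransparency.types false in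
set_option backward.isDefEq.respectTransparency false in
/-- the support of a section of `f_! F` is the image of its support as a section of `F` -/
theorem sectSupp_L (V : Y.Etale) (t : shriekSubgroup f F V) :
    sectSupp ((L f).obj F) V t = (prV f V).base '' sectSupp F ((EtCoh.bc f).obj V) t.1 := by
  have hT : ClSub.IsProperOver (prV f V) (sectSupp F ((EtCoh.bc f).obj V) t.1) :=
    (mem_shriekSubgroup_iff' f F V t.1).1 t.2
  have hcl : IsClosed ((prV f V).base '' sectSupp F ((EtCoh.bc f).obj V) t.1) := by
    have := isProperOver_image_of_isSeparated (prV f V) (𝟙 V.left) (prV f V)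
      (Category.comp_id _) _ hT
    exact this.1
  apply subset_antisymm
  · intro y hy
    by_contra hcon
    let N : V.left.Opens := ⟨((prV f V).base '' sectSupp F ((EtCoh.bc f).obj V) t.1)ᶜ,
      hcl.isOpen_compl⟩
    have hyN : y ∈ N := hcon
    apply hy (EtGlue.opn V N) (EtGlue.opnι V N) ⟨⟨y, hyN⟩, rfl⟩
    apply Subtype.ext
    rw [L_map_apply]
    change _ = (0 : EtCoh.sect F _)
    apply eq_zero_of_sectSupp_eq_empty
    rw [sectSupp_map]
    ext z
    simp only [Set.mem_preimage, Set.mem_empty_iff_false, iff_false]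
    intro hz
    have sq := EtCoh.isPullback_bc_map f (EtGlue.opnι V N)
    have h1 : (prV f V).base (((EtCoh.bc f).map (EtGlue.opnι V N)).left.base z) ∈ N := by
      have := congrArg (fun k => k.base z) sq.w
      change (prV f V).base (((EtCoh.bc f).map (EtGlue.opnι V N)).left.base z) = _ at this
      rw [this]
      exact ((pullback.fst (EtGlue.opn V N).hom f).base z).2
    exact h1 ⟨_, hz, rfl⟩
  · rintro _ ⟨x, hx, rfl⟩
    intro N n ⟨y', hy'⟩ h0
    have sq := EtCoh.isPullback_bc_map f n
    obtain ⟨z, hz1, -⟩ := Scheme.Pullback.exists_preimage_pullback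
      (f := (prV f V)) (g := n.left) x y' hy'.symm
    have h0' : F.obj.map ((EtCoh.bc f).map n).op t.1 = 0 := by
      rw [← L_map_apply]
      exact congrArg Subtype.val h0
    apply hx ((EtCoh.bc f).obj N) ((EtCoh.bc f).map n) ⟨sq.isoPullback.inv.base z, ?_⟩ h0'
    rw [← hz1, ← Scheme.Hom.comp_apply, IsPullback.isoPullback_inv_fst]

end Groth.Agent.Lib.Helper23.Shriek
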