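import Groth.Agent.Lib.Helper23.Shriek.QfPoints
import Groth.Agent.Lib.Helper23.Shriek.StalkInj
import Groth.Agent.Lib.Helper23.Shriek.SuppL

/-!
# The stalk of `f_! F` at a geometric point maps to the stalks of `F` at the points of the fibre

For `f` locally quasi-finite, the family of these maps is jointly injective and every germ has
only finitely many nonzero components.
-/

set_option autoImplicit false
universe u

namespace Groth.Agent.Lib.Helper23.Shriek

open CategoryTheory CategoryTheory.Limits AlgebraicGeometry Opposite EtShriek GrothendieckTopology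
open Groth.Agent.Lib.Helper23 EtGlue EtSupp Groth.Agent.Lib.Helper9.ProperOver
open Groth.Agent.Lib.Helper23.EtStalkShriek (Lifts)
open Groth.Agent.Lib.Helper23.FinPushFiber (liftpt liftpt_map liftpt_left_fst liftpt_left_snd)

section Germ

variable {T : Scheme.{u}} (G : EtCoh.Ab T) {Ω : Type u} [Field Ω] [IsSepClosed Ω]
  (ξ : Spec (CommRingCat.of Ω) ⟶ T)

set_option backward.isDefEq.respectTransparency.types false in
set_option backward.isDefEq.respectTransparency false in
/-- a germ at a geometric point vanishes iff the point is not in the support of the section -/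
theorem germ_eq_zero_iff (U : T.Etale) (u : (pX ξ).fiber.obj U) (s : EtCoh.sect G U) :
    (pX ξ).toPresheafFiber U u G.obj s = 0 ↔
      (u.left : Spec (CommRingCat.of Ω) ⟶ U.left) (default : ↥(Spec (CommRingCat.of Ω))) ∉
        sectSupp G U s := by
  constructor
  · intro h
    have h0 : (pX ξ).toPresheafFiber U u G.obj s = (pX ξ).toPresheafFiber U u G.obj 0 := by
      rw [h, map_zero]
    obtain ⟨W, g, w, hw, hg⟩ := ((pX ξ).toPresheafFiber_eq_iff' U u s 0).1 h0
    rw [not_mem_sectSupp_iff]
    refine ⟨W, g, ⟨(w.left : Spec (CommRingCat.of Ω) ⟶ W.left)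
      (default : ↥(Spec (CommRingCat.of Ω))), ?_⟩, ?_⟩
    · have h1 : (w.left : Spec (CommRingCat.of Ω) ⟶ W.left) ≫ g.left = u.left :=
        congrArg (fun m : (pX ξ).fiber.obj U => (m.left : Spec (CommRingCat.of Ω) ⟶ U.left)) hw
      rw [← h1]
      rfl
    · rw [hg, map_zero]
  · intro h
    obtain ⟨W, g, ⟨w₀, hw₀⟩, hg⟩ := (not_mem_sectSupp_iff G U s _).1 h
    obtain ⟨l, hl1, hl2⟩ := Scheme.exists_fac_of_etale_of_isSepClosed g.left
      (u.left : Spec (CommRingCat.of Ω) ⟶ U.left) w₀ hw₀
    have hu : (u.left : Spec (CommRingCat.of Ω) ⟶ U.left) ≫ U.hom = ξ := Over.w u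
    have hgw : g.left ≫ U.hom = W.hom := Over.w g.hom
    let w : (pX ξ).fiber.obj W := Over.homMk l (by
      change l ≫ W.hom = ξ
      rw [← hgw, ← Category.assoc, hl1, hu])
    have hw : (pX ξ).fiber.map g w = u := by
      apply Over.OverMorphism.ext
      exact hl1
    rw [← hw, ← Point.toPresheafFiber_w_apply, hg, map_zero]

end Germ

variable {X Y : Scheme.{u}} (f : X ⟶ Y) [LocallyOfFiniteType f] (F : EtCoh.Ab X)

set_option backward.isDefEq.respectTransparency.types false in
instance locallyQuasiFinite_prV [LocallyQuasiFinite f] (V : Y.Etale) :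
    LocallyQuasiFinite (prV f V) :=
  MorphismProperty.pullback_fst (P := @LocallyQuasiFinite) V.hom f inferInstance

section RL

variable {Ω : Type u} [Field Ω] [IsSepClosed Ω] (η : Spec (CommRingCat.of Ω) ⟶ Y)

/-- the stalk of `f_! F` (as the sheaf of sections with proper support) at `η` -/
noncomputable abbrev SL : AddCommGrpCat.{u+1} :=
  (pX η).presheafFiber.obj (lowerShriekPre f F)

/-- the map from the stalk of `f_! F` to the stalk of `f_* F` -/
noncomputable abbrev inclη :
    SL f F η ⟶ (pX η).presheafFiber.obj ((EtCoh.bc f).op ⋙ F.obj) :=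
  (pX η).presheafFiber.map (lowerShriekPreι f F)

/-- the component of a germ of `f_! F` at a geometric point of the fibre -/
noncomputable def rL (ξ : Lifts f η) : SL f F η ⟶ (pU f η ξ).presheafFiber.obj F.obj :=
  inclη f F η ≫ rU f F η ξ

lemma rL_germ (ξ : Lifts f η) (V : Y.Etale) (v : (pX η).fiber.obj V)
    (s : shriekSubgroup f F V) :
    rL f F η ξ ((pX η).toPresheafFiber V v (lowerShriekPre f F) s) =
      (pU f η ξ).toPresheafFiber ((EtCoh.bc f).obj V) (liftpt ξ.1 ξ.2 V v) F.obj s.1 := by
  unfold rL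
  rw [ConcreteCategory.comp_apply, Point.toPresheafFiber_naturality_apply]
  exact rU_germ f F η ξ V v s.1

/-- naturality of the components in the sheaf -/
lemma rL_naturality {F G : EtCoh.Ab X} (α : F ⟶ G) (ξ : Lifts f η) (z : ToType (SL f F η)) :
    rL f G η ξ ((pX η).presheafFiber.map ((lowerShriekPreFunctor f).map α) z) =
      (pU f η ξ).presheafFiber.map α.hom (rL f F η ξ z) := by
  obtain ⟨V, v, s, rfl⟩ := (pX η).toPresheafFiber_jointly_surjective
    (P := (lowerShriekPreFunctor f).obj F) z
  rw [Point.toPresheafFiber_naturality_apply]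
  erw [rL_germ f G η ξ V v, rL_germ f F η ξ V v]
  rw [Point.toPresheafFiber_naturality_apply]
  rfl

end RL

section Qf

variable [LocallyQuasiFinite f] {Ω : Type u} [Field Ω] [IsAlgClosed Ω]
  (η : Spec (CommRingCat.of Ω) ⟶ Y)

set_option backward.isDefEq.respectTransparency.types false in
set_option backward.isDefEq.respectTransparency false in
/-- the point of `X ×_Y V` defined by a geometric point of the fibre -/
lemma liftpt_left_eq (V : Y.Etale) (v : (pX η).fiber.obj V)
    (l : Spec (CommRingCat.of Ω) ⟶ ((EtCoh.bc f).obj V).left)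
    (hl : l ≫ prV f V = (v.left : Spec (CommRingCat.of Ω) ⟶ V.left))
    (hξ : (l ≫ (pullback.snd V.hom f : ((EtCoh.bc f).obj V).left ⟶ X)) ≫ f = η) :
    ((liftpt (l ≫ (pullback.snd V.hom f : ((EtCoh.bc f).obj V).left ⟶ X)) hξ V v).left :
      Spec (CommRingCat.of Ω) ⟶ ((EtCoh.bc f).obj V).left) = l := by
  apply pullback.hom_ext
  · rw [liftpt_left_fst]
    exact hl.symm
  · rw [liftpt_left_snd]

set_option backward.isDefEq.respectTransparency.types false in
set_option backward.isDefEq.respectTransparency false in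
/-- **joint injectivity**: a germ of `f_! F` all of whose components vanish is zero -/
theorem eq_zero_of_rL_eq_zero (z : ToType (SL f F η))
    (hz : ∀ ξ : Lifts f η, rL f F η ξ z = 0) : z = 0 := by
  obtain ⟨V, v, s, rfl⟩ := (pX η).toPresheafFiber_jointly_surjective z
  let t : shriekSubgroup f F V := s
  have hv : (v.left : Spec (CommRingCat.of Ω) ⟶ V.left) (default : ↥(Spec (CommRingCat.of Ω))) ∉
      sectSupp ((L f).obj F) V t := by
    rw [sectSupp_L]
    rintro ⟨x, hxZ, hx⟩
    obtain ⟨l, hl1, hl2⟩ := exists_lift_of_lqf (prV f V)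
      (v.left : Spec (CommRingCat.of Ω) ⟶ V.left) x hx
    have hvη : (v.left : Spec (CommRingCat.of Ω) ⟶ V.left) ≫ V.hom = η := Over.w v
    have hξ : (l ≫ (pullback.snd V.hom f : ((EtCoh.bc f).obj V).left ⟶ X)) ≫ f = η := by
      rw [Category.assoc, ← pullback.condition, ← Category.assoc]
      erw [hl1]
      exact hvη
    let ξ : Lifts f η := ⟨l ≫ (pullback.snd V.hom f : ((EtCoh.bc f).obj V).left ⟶ X), hξ⟩
    have h1 := hz ξ
    erw [rL_germ f F η ξ V v t] at h1
    rw [germ_eq_zero_iff] at h1
    apply h1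
    rw [liftpt_left_eq f η V v l hl1 hξ]
    have h2 := hxZ
    rw [← hl2] at h2
    exact h2
  exact (germ_eq_zero_iff ((L f).obj F) η V v t).2 hv

set_option backward.isDefEq.respectTransparency.types false in
set_option backward.isDefEq.respectTransparency false in
/-- **finiteness**: a germ of `f_! F` has only finitely many nonzero components -/
theorem finite_rL_ne_zero (z : ToType (SL f F η)) :
    {ξ : Lifts f η | rL f F η ξ z ≠ 0}.Finite := by
  obtain ⟨V, v, s, rfl⟩ := (pX η).toPresheafFiber_jointly_surjective z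
  let t : shriekSubgroup f F V := s
  set Z := sectSupp F ((EtCoh.bc f).obj V) t.1 with hZ
  have hZp : ClSub.IsProperOver (prV f V) Z := (mem_shriekSubgroup_iff' f F V t.1).1 t.2
  haveI := finite_lifts_in_lqf (prV f V) (v.left : Spec (CommRingCat.of Ω) ⟶ V.left) Z hZp
  rw [← Set.finite_coe_iff]
  refine Finite.of_injective
    (fun ξ : {ξ : Lifts f η | rL f F η ξ ((pX η).toPresheafFiber V v (lowerShriekPre f F) s) ≠ 0} =>
      (⟨⟨((liftpt ξ.1.1 ξ.1.2 V v).left :
          Spec (CommRingCat.of Ω) ⟶ ((EtCoh.bc f).obj V).left), liftpt_left_fst _ _ _ _⟩, by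
        have h1 := ξ.2
        change rL f F η ξ.1 _ ≠ 0 at h1
        erw [rL_germ f F η ξ.1 V v t] at h1
        by_contra hc
        exact h1 ((germ_eq_zero_iff F ξ.1.1 _ _ _).2 hc)⟩ :
        {l : ShriekGeom.Lifts (prV f V) (v.left : Spec (CommRingCat.of Ω) ⟶ V.left) //
          l.1 default ∈ Z})) ?_
  intro ξ ξ' h
  apply Subtype.ext
  apply Subtype.ext
  have h1 : ((liftpt ξ.1.1 ξ.1.2 V v).left :
      Spec (CommRingCat.of Ω) ⟶ ((EtCoh.bc f).obj V).left) =
      ((liftpt ξ'.1.1 ξ'.1.2 V v).left :
      Spec (CommRingCat.of Ω) ⟶ ((EtCoh.bc f).obj V).left) :=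
    congrArg (fun q => q.1.1) h
  have h2 := congrArg (fun m => m ≫ (pullback.snd V.hom f : ((EtCoh.bc f).obj V).left ⟶ X)) h1
  simp only [liftpt_left_snd] at h2
  exact h2

end Qf

end Groth.Agent.Lib.Helper23.Shriek
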