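import Groth.Agent.Lib.Helper23.Shriek.QfGeom
import Groth.Agent.Lib.Helper23.Shriek.QfStalkR

/-!
# Elementary germs of `f_! F` for a separated locally quasi-finite morphism

Every germ of `F` at a geometric point `ξ` of the fibre over `η` is the `ξ`-component of a germ
of `f_! F` at `η` all of whose other components vanish.
-/

set_option autoImplicit false
universe u

namespace Groth.Agent.Lib.Helper23.Shriek

open CategoryTheory CategoryTheory.Limits AlgebraicGeometry Opposite EtShriek GrothendieckTopology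
open Groth.Agent.Lib.Helper23 EtGlue EtSupp Groth.Agent.Lib.Helper9.ProperOver
open Groth.Agent.Lib.Helper23.EtStalkShriek (Lifts)
open Groth.Agent.Lib.Helper23.FinPushFiber (liftpt liftpt_map liftpt_left_fst liftpt_left_snd)

variable {X Y : Scheme.{u}} (f : X ⟶ Y) [LocallyOfFiniteType f] [IsSeparated f]
  [LocallyQuasiFinite f] (F : EtCoh.Ab X) {Ω : Type u} [Field Ω] [IsAlgClosed Ω]
  (η : Spec (CommRingCat.of Ω) ⟶ Y)

set_option backward.isDefEq.respectTransparency.types false in
set_option backward.isDefEq.respectTransparency false in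
set_option maxHeartbeats 1600000 in
/-- **elementary germs** -/
theorem exists_elementary (ξ : Lifts f η) (a : ToType ((pU f η ξ).presheafFiber.obj F.obj)) :
    ∃ z : ToType (SL f F η), rL f F η ξ z = a ∧
      ∀ ξ' : Lifts f η, ξ' ≠ ξ → rL f F η ξ' z = 0 := by
  obtain ⟨W, w, t, rfl⟩ := (pU f η ξ).toPresheafFiber_jointly_surjective a
  haveI : Etale W.hom := W.prop
  have hw : (w.left : Spec (CommRingCat.of Ω) ⟶ W.left) ≫ W.hom = ξ.1 := Over.w w
  obtain ⟨V, g, hg, vb, hvb, C, γ, hγc, hγe, hγp, m, hmq, c₀, hc1, hc2, hc3, huniq⟩ :=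
    exists_isolating_nbhd f η ξ.1 ξ.2 W.hom w.left hw
  haveI := hg
  haveI := hγc
  haveI := hγe
  let VY : Y.Etale := Scheme.Etale.mk g
  let vY : (pX η).fiber.obj VY := Over.homMk vb hvb
  let CX : X.Etale := Scheme.Etale.mk (γ ≫ pullback.snd g f)
  let γ' : CX ⟶ (EtCoh.bc f).obj VY := MorphismProperty.Over.homMk γ rfl trivial
  let mX : CX ⟶ W := MorphismProperty.Over.homMk m hmq trivial
  have hcl : ClopenImm γ' := ⟨(inferInstance : Mono γ), γ.isClosedEmbedding.isClosed_range⟩
  let s : EtCoh.sect F ((EtCoh.bc f).obj VY) := hcl.extZ F (F.obj.map mX.op t)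
  have hs : s ∈ shriekSubgroup f F VY := by
    rw [mem_shriekSubgroup_iff']
    refine isProperOver_of_subset _ (hcl.sectSupp_extZ_subset F _) (isClosed_sectSupp F _ _) ?_
    exact ((isProperOver_tfae (prV f VY) _ hcl.closed).1).2 ⟨C, γ, hγc, rfl, hγp⟩
  refine ⟨(pX η).toPresheafFiber VY vY (lowerShriekPre f F)
    (⟨s, hs⟩ : shriekSubgroup f F VY), ?_, ?_⟩
  · erw [rL_germ f F η ξ VY vY ⟨s, hs⟩]
    let cpt : (pU f η ξ).fiber.obj CX := Over.homMk c₀ (by
      change c₀ ≫ γ ≫ pullback.snd g f = ξ.1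
      exact hc2)
    have h1 : (pU f η ξ).fiber.map γ' cpt = liftpt ξ.1 ξ.2 VY vY := by
      apply Over.OverMorphism.ext
      change c₀ ≫ γ = _
      apply pullback.hom_ext
      · have e := liftpt_left_fst ξ.1 ξ.2 VY vY
        rw [Category.assoc]
        exact hc1.trans e.symm
      · have e := liftpt_left_snd ξ.1 ξ.2 VY vY
        rw [Category.assoc]
        exact hc2.trans e.symm
    have h2 : (pU f η ξ).fiber.map mX cpt = w := by
      apply Over.OverMorphism.ext
      exact hc3
    rw [← h1, ← Point.toPresheafFiber_w_apply]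
    erw [hcl.extZ_res]
    rw [Point.toPresheafFiber_w_apply, h2]
  · intro ξ' hne
    erw [rL_germ f F η ξ' VY vY ⟨s, hs⟩]
    rw [germ_eq_zero_iff]
    intro hmem
    obtain ⟨c, hc⟩ := hcl.sectSupp_extZ_subset F _ hmem
    obtain ⟨c', hc'1, hc'2⟩ := Scheme.exists_fac_of_etale_of_isSepClosed γ'.left
      ((liftpt ξ'.1 ξ'.2 VY vY).left : Spec (CommRingCat.of Ω) ⟶ ((EtCoh.bc f).obj VY).left)
      c hc
    apply hne
    apply Subtype.ext
    refine huniq ξ'.1 c' ?_ ?_
    · rw [← Category.assoc]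
      erw [hc'1]
      exact liftpt_left_fst _ _ _ _
    · rw [← Category.assoc]
      erw [hc'1]
      exact liftpt_left_snd _ _ _ _

end Groth.Agent.Lib.Helper23.Shriek
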