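import Groth.Agent.Lib.Helper23.Shriek.QfPoints
import Groth.Agent.Lib.Helper23.FinPushStalk

/-!
# Isolating a geometric point of a fibre of a separated locally quasi-finite morphism

Using Zariski's main theorem (étale local splitting off of a finite part) and the splitting theorem
for finite morphisms over a geometric point, we produce, for a geometric point `ξ` of `X` over `η`
and an étale neighbourhood `W` of `ξ`, an étale neighbourhood `V` of `η` and an open and closed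
subscheme `C` of `X ×_Y V`, finite over `V`, mapping to `W`, which contains `ξ` and no other
geometric point of the fibre.
-/

set_option autoImplicit false
universe u

namespace Groth.Agent.Lib.Helper23.Shriek

open CategoryTheory CategoryTheory.Limits AlgebraicGeometry Opposite EtShriek
open Groth.Agent.Lib.Helper23 EtGlue
open Groth.Agent.Lib.Helper23.FinPushFiber (liftpt liftpt_left_fst liftpt_left_snd)
open Groth.Agent.Lib.Helper23.FinPushStalk (topPt toBcTop toBcTop_pt)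

variable {X Y : Scheme.{u}} (f : X ⟶ Y) [LocallyOfFiniteType f] [IsSeparated f]
  [LocallyQuasiFinite f] {Ω : Type u} [Field Ω] [IsAlgClosed Ω]
  (η : Spec (CommRingCat.of Ω) ⟶ Y)

set_option backward.isDefEq.respectTransparency.types false in
set_option backward.isDefEq.respectTransparency false in
set_option maxHeartbeats 1600000 in
theorem exists_isolating_nbhd (ξ : Spec (CommRingCat.of Ω) ⟶ X) (hξ : ξ ≫ f = η)
    {W : Scheme.{u}} (q : W ⟶ X) [Etale q] (wb : Spec (CommRingCat.of Ω) ⟶ W)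
    (hw : wb ≫ q = ξ) :
    ∃ (V : Scheme.{u}) (g : V ⟶ Y) (_ : Etale g) (vb : Spec (CommRingCat.of Ω) ⟶ V)
      (_ : vb ≫ g = η) (C : Scheme.{u}) (γ : C ⟶ pullback g f) (_ : IsClosedImmersion γ)
      (_ : Etale (γ ≫ pullback.snd g f)) (_ : IsProper (γ ≫ pullback.fst g f))
      (m : C ⟶ W) (_ : m ≫ q = γ ≫ pullback.snd g f) (c₀ : Spec (CommRingCat.of Ω) ⟶ C),
      c₀ ≫ γ ≫ pullback.fst g f = vb ∧ c₀ ≫ γ ≫ pullback.snd g f = ξ ∧ c₀ ≫ m = wb ∧
      ∀ (ξ' : Spec (CommRingCat.of Ω) ⟶ X) (c' : Spec (CommRingCat.of Ω) ⟶ C),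
        c' ≫ γ ≫ pullback.fst g f = vb → c' ≫ γ ≫ pullback.snd g f = ξ' → ξ' = ξ := by
  classical
  -- Zariski's main theorem
  obtain ⟨V₀, g₀, hg₀, -, A, B, a₀, hAB, hfin, ha₀⟩ :=
    exists_etale_isCompl_of_quasiFiniteAt f (x := ξ default) (s := f (ξ default)) rfl
      (f.quasiFiniteAt _)
  haveI := hg₀
  let eA : A.toScheme ⟶ X := A.ι ≫ pullback.fst f g₀
  let h : A.toScheme ⟶ V₀ := A.ι ≫ pullback.snd f g₀
  haveI : IsFinite h := hfin
  have hcond : eA ≫ f = h ≫ g₀ := by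
    simp only [eA, h, Category.assoc, pullback.condition]
  haveI : Etale eA := inferInstance
  -- a geometric point of the finite part
  obtain ⟨ζ₀, hζ₀1, hζ₀2⟩ := Scheme.exists_fac_of_etale_of_isSepClosed eA ξ a₀ ha₀
  let vb₀ : Spec (CommRingCat.of Ω) ⟶ V₀ := ζ₀ ≫ h
  have hvb₀ : vb₀ ≫ g₀ = η := by
    rw [Category.assoc, ← hcond, ← Category.assoc, hζ₀1, hξ]
  let ζ₀' : FinPushGeom.Lifts h vb₀ := ⟨ζ₀, rfl⟩
  -- neighbourhoods of the points of the finite part
  have hex : ∀ ζ : FinPushGeom.Lifts h vb₀, ∃ (Wζ : A.toScheme.Etale)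
      (wζ : (Scheme.pointSmallEtale ζ.1).fiber.obj Wζ),
      ζ = ζ₀' → ∃ n : Wζ.left ⟶ W, n ≫ q = Wζ.hom ≫ eA ∧
        (wζ.left : Spec (CommRingCat.of Ω) ⟶ Wζ.left) ≫ n = wb := by
    intro ζ
    by_cases hζ : ζ = ζ₀'
    · subst hζ
      refine ⟨Scheme.Etale.mk (pullback.snd q eA),
        Over.homMk (pullback.lift wb ζ₀ (by rw [hw, hζ₀1])) (pullback.lift_snd _ _ _),
        fun _ => ⟨pullback.fst q eA, pullback.condition, pullback.lift_fst _ _ _⟩⟩
    · exact ⟨EtCoh.top _, topPt ζ.1, fun e => (hζ e).elim⟩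
  choose W' w' hW' using hex
  obtain ⟨_, V, v, g₁, _hg₁, U, hdisj, hcov, H⟩ :=
    FinPushGeom.exists_split h vb₀ (EtCoh.top V₀) (topPt vb₀) W' w'
      (fun ζ => toBcTop h (W' ζ)) (fun ζ => toBcTop_pt h vb₀ ζ (W' ζ) (w' ζ))
  choose m₀ u hu1 hu2 _hu3 using H
  obtain ⟨n, hn1, hn2⟩ := hW' ζ₀' rfl
  haveI : Etale V.hom := V.prop
  have hvV : (v.left : Spec (CommRingCat.of Ω) ⟶ V.left) ≫ V.hom = vb₀ := Over.w v
  -- the data
  let g : V.left ⟶ Y := V.hom ≫ g₀
  let Q : Scheme.{u} := pullback V.hom h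
  let Uo : Q.Opens := U ζ₀'
  have hcc : pullback.fst V.hom h ≫ g = (pullback.snd V.hom h ≫ eA) ≫ f := by
    simp only [g, Category.assoc]
    rw [hcond, ← Category.assoc, pullback.condition, Category.assoc]
  let c : Q ⟶ pullback g f := pullback.lift (pullback.fst V.hom h) (pullback.snd V.hom h ≫ eA) hcc
  have hc1 : c ≫ pullback.fst g f = pullback.fst V.hom h := pullback.lift_fst _ _ _
  have hc2 : c ≫ pullback.snd g f = pullback.snd V.hom h ≫ eA := pullback.lift_snd _ _ _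
  let γ : Uo.toScheme ⟶ pullback g f := Uo.ι ≫ c
  have hγ1 : γ ≫ pullback.fst g f = Uo.ι ≫ pullback.fst V.hom h := by
    simp only [γ, Category.assoc, hc1]
  have hγ2 : γ ≫ pullback.snd g f = Uo.ι ≫ pullback.snd V.hom h ≫ eA := by
    simp only [γ, Category.assoc, hc2]
  -- `c` is a monomorphism
  have hcm : Mono c := by
    refine ⟨fun {Z} a b hab => ?_⟩
    have h1 : a ≫ pullback.fst V.hom h = b ≫ pullback.fst V.hom h := by
      have := congrArg (fun t => t ≫ pullback.fst g f) hab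
      simpa only [Category.assoc, hc1] using this
    have h2 : a ≫ pullback.snd V.hom h ≫ eA = b ≫ pullback.snd V.hom h ≫ eA := by
      have := congrArg (fun t => t ≫ pullback.snd g f) hab
      simpa only [Category.assoc, hc2] using this
    have e : ∀ t : Z ⟶ Q, (t ≫ pullback.snd V.hom h ≫ A.ι) ≫ pullback.snd f g₀ =
        (t ≫ pullback.fst V.hom h) ≫ V.hom := by
      intro t
      simp only [Category.assoc]
      rw [pullback.condition]
    have h3 : a ≫ pullback.snd V.hom h ≫ A.ι = b ≫ pullback.snd V.hom h ≫ A.ι := by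
      apply pullback.hom_ext
      · simpa only [eA, Category.assoc] using h2
      · rw [e a, e b, h1]
    have h4 : a ≫ pullback.snd V.hom h = b ≫ pullback.snd V.hom h := by
      rw [← cancel_mono A.ι]
      simpa only [Category.assoc] using h3
    exact pullback.hom_ext h1 h4
  -- `Uo` is closed
  have hUc : IsClosed (Uo : Set Q) := by
    have hcompl : (Uo : Set Q)ᶜ =
        ⋃ ζ : {ζ : FinPushGeom.Lifts h vb₀ // ζ ≠ ζ₀'}, SetLike.coe (U ζ.1) := by
      ext x
      constructor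
      · intro hx
        have hx' : x ∈ (⨆ a, U a) := by rw [hcov]; trivial
        obtain ⟨ζ, hζ⟩ := TopologicalSpace.Opens.mem_iSup.1 hx'
        exact Set.mem_iUnion.2 ⟨⟨ζ, fun e => hx (by rw [e] at hζ; exact hζ)⟩, hζ⟩
      · intro hx hx0
        obtain ⟨⟨ζ, hne⟩, hζ⟩ := Set.mem_iUnion.1 hx
        exact (hdisj ζ ζ₀' hne).le_bot ⟨hζ, hx0⟩
    rw [← isOpen_compl_iff, hcompl]
    exact isOpen_iUnion (fun ζ => (U ζ.1).2)
  haveI : IsClosedImmersion Uo.ι :=
    IsClosedImmersion.of_isPreimmersion _ (by rw [Scheme.Opens.range_ι]; exact hUc)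
  haveI : IsFinite (pullback.fst V.hom h) := inferInstance
  have hγp : IsProper (γ ≫ pullback.fst g f) := by
    rw [hγ1]
    infer_instance
  haveI : IsSeparated (pullback.fst g f) := inferInstance
  have hγproper : IsProper γ :=
    MorphismProperty.of_postcomp (W := @IsProper) (W' := @IsSeparated) γ (pullback.fst g f)
      inferInstance hγp
  haveI : Mono γ := mono_comp _ _
  have hγc : IsClosedImmersion γ := (IsClosedImmersion.iff_isProper_and_mono γ).2 ⟨hγproper, inferInstance⟩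
  have hγe : Etale (γ ≫ pullback.snd g f) := by
    rw [hγ2]
    infer_instance
  -- the map to `W`
  let m : Uo.toScheme ⟶ W := (m₀ ζ₀').left ≫ n
  have hm₀w : (m₀ ζ₀').left ≫ (W' ζ₀').hom = Uo.ι ≫ pullback.snd V.hom h := Over.w (m₀ ζ₀').hom
  have hmq : m ≫ q = γ ≫ pullback.snd g f := by
    rw [hγ2]
    simp only [m, Category.assoc]
    rw [hn1, ← Category.assoc, hm₀w, Category.assoc]
  -- the points
  have hpt : ∀ ζ : FinPushGeom.Lifts h vb₀,
      ((u ζ).left : Spec (CommRingCat.of Ω) ⟶ (U ζ).toScheme) ≫ (U ζ).ι =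
        ((liftpt ζ.1 ζ.2 V v).left : Spec (CommRingCat.of Ω) ⟶ Q) := fun ζ =>
    congrArg (fun p : (Scheme.pointSmallEtale ζ.1).fiber.obj ((EtCoh.bc h).obj V) =>
      (p.left : Spec (CommRingCat.of Ω) ⟶ Q)) (hu1 ζ)
  let c₀ : Spec (CommRingCat.of Ω) ⟶ Uo.toScheme := (u ζ₀').left
  have hc₀1 : c₀ ≫ Uo.ι ≫ pullback.fst V.hom h = v.left := by
    rw [← Category.assoc, hpt ζ₀']
    exact liftpt_left_fst _ _ _ _
  have hc₀2 : c₀ ≫ Uo.ι ≫ pullback.snd V.hom h = ζ₀ := by
    rw [← Category.assoc, hpt ζ₀']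
    exact liftpt_left_snd _ _ _ _
  have hc₀m : c₀ ≫ (m₀ ζ₀').left = (w' ζ₀').left :=
    congrArg (fun p : (Scheme.pointSmallEtale ζ₀'.1).fiber.obj (W' ζ₀') =>
      (p.left : Spec (CommRingCat.of Ω) ⟶ (W' ζ₀').left)) (hu2 ζ₀')
  refine ⟨V.left, g, inferInstance, v.left, ?_, Uo.toScheme, γ, hγc, hγe, hγp, m, hmq, c₀,
    ?_, ?_, ?_, ?_⟩
  · simp only [g]
    rw [← Category.assoc, hvV, hvb₀]
  · rw [hγ1]
    exact hc₀1
  · rw [hγ2, ← Category.assoc, ← Category.assoc, Category.assoc c₀, hc₀2, hζ₀1]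
  · simp only [m]
    rw [← Category.assoc, hc₀m, hn2]
  · intro ξ' c' h1 h2
    rw [hγ1] at h1
    rw [hγ2] at h2
    let ζ' : Spec (CommRingCat.of Ω) ⟶ A.toScheme := c' ≫ Uo.ι ≫ pullback.snd V.hom h
    have hζ' : ζ' ≫ h = vb₀ := by
      simp only [ζ', Category.assoc]
      rw [← pullback.condition, ← Category.assoc, ← Category.assoc, Category.assoc c', h1, hvV]
    let ζ'' : FinPushGeom.Lifts h vb₀ := ⟨ζ', hζ'⟩
    have hl : ((liftpt ζ''.1 ζ''.2 V v).left : Spec (CommRingCat.of Ω) ⟶ Q) = c' ≫ Uo.ι := by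
      apply pullback.hom_ext
      · rw [liftpt_left_fst, Category.assoc, h1]
      · rw [liftpt_left_snd, Category.assoc]
    have hmem : (c' ≫ Uo.ι) (default : ↥(Spec (CommRingCat.of Ω))) ∈ U ζ'' := by
      rw [← hl, ← hpt ζ'']
      rw [Scheme.Hom.comp_apply]
      exact (((u ζ'').left : Spec (CommRingCat.of Ω) ⟶ (U ζ'').toScheme)
        (default : ↥(Spec (CommRingCat.of Ω)))).2
    have hmem₀ : (c' ≫ Uo.ι) (default : ↥(Spec (CommRingCat.of Ω))) ∈ U ζ₀' := by
      rw [Scheme.Hom.comp_apply]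
      exact (c' (default : ↥(Spec (CommRingCat.of Ω)))).2
    have hζeq : ζ'' = ζ₀' := by
      by_contra hne
      exact (hdisj ζ'' ζ₀' hne).le_bot ⟨hmem, hmem₀⟩
    have hζeq' : ζ' = ζ₀ := congrArg Subtype.val hζeq
    rw [← h2, ← hζ₀1, ← hζeq']
    simp only [ζ', Category.assoc]

end Groth.Agent.Lib.Helper23.Shriek
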