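import Groth.Agent.Lib.Helper23.Shriek.QfElem
import Groth.Agent.Lib.Helper23.Shriek.CoprodRecog

/-!
# The stalk of `f_! F` for a separated locally quasi-finite morphism
-/

set_option autoImplicit false
universe u

namespace Groth.Agent.Lib.Helper23.Shriek

open CategoryTheory CategoryTheory.Limits AlgebraicGeometry Opposite EtShriek GrothendieckTopology
open Groth.Agent.Lib.Helper23
open Groth.Agent.Lib.Helper23.EtStalkShriek (Lifts)

variable {X Y : Scheme.{u}} (f : X ⟶ Y) [LocallyOfFiniteType f] [IsSeparated f]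
  [LocallyQuasiFinite f] (F : EtCoh.Ab X) {Ω : Type u} [Field Ω] [IsAlgClosed Ω]
  (η : Spec (CommRingCat.of Ω) ⟶ Y)

/-- the stalk of the sheaf of sections with proper support is the direct sum of the stalks at the
geometric points of the fibre -/
theorem nonempty_stalk_L_iso :
    Nonempty ((EtCoh.stalk η).obj ((L f).obj F) ≅
      ∐ fun ξ : {ξ : Spec (CommRingCat.of Ω) ⟶ X // ξ ≫ f = η} => (EtCoh.stalk ξ.1).obj F) :=
  nonempty_iso_sigma (SL f F η) (fun ξ : Lifts f η => (pU f η ξ).presheafFiber.obj F.obj)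
    (rL f F η) (eq_zero_of_rL_eq_zero f F η) (finite_rL_ne_zero f F η)
    (exists_elementary f F η)

/-- the stalk of `f_! F` is the direct sum of the stalks at the geometric points of the fibre -/
theorem nonempty_stalk_lowerShriek_iso :
    Nonempty ((EtCoh.stalk η).obj ((lowerShriek f).obj F) ≅
      ∐ fun ξ : {ξ : Spec (CommRingCat.of Ω) ⟶ X // ξ ≫ f = η} => (EtCoh.stalk ξ.1).obj F) := by
  obtain ⟨e⟩ := nonempty_stalk_L_iso f F η
  exact ⟨(EtCoh.stalk η).mapIso ((LIso f).app F) ≪≫ e⟩

end Groth.Agent.Lib.Helper23.Shriek
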