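import Groth.Agent.Lib.Helper23.Shriek.Supp

/-!
# The presheaf of sections with proper support is a sheaf
-/

set_option autoImplicit false
universe u

namespace Groth.Agent.Lib.Helper23.Shriek

open CategoryTheory CategoryTheory.Limits AlgebraicGeometry Opposite EtShriek
open Groth.Agent.Lib.Helper23 Groth.Agent.Lib.Helper9.ProperOver

variable {X Y : Scheme.{u}}

/-- base change of "proper over": from a proper closed subset upstairs to properness of the
base-changed reduced subscheme -/
theorem isProper_pullback_snd_red {X S X' S' : Scheme.{u}} (f : X ⟶ S) [LocallyOfFiniteType f]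
    (g : S' ⟶ S) (g' : X' ⟶ X) (f' : X' ⟶ S') (sq : IsPullback g' f' f g)
    (Z : Set X) (hZ : IsClosed Z) (h : ClSub.IsProperOver f' (g' ⁻¹' Z)) :
    IsProper (pullback.snd ((red Z hZ).subschemeι ≫ f) g) := by
  set ι := (red Z hZ).subschemeι with hι
  have hlft : LocallyOfFiniteType f' := MorphismProperty.of_isPullback sq inferInstance
  let j : pullback (ι ≫ f) g ⟶ X' :=
    sq.lift (pullback.fst (ι ≫ f) g ≫ ι) (pullback.snd (ι ≫ f) g)
      (by rw [Category.assoc, pullback.condition])
  have hjsnd : j ≫ f' = pullback.snd (ι ≫ f) g := sq.lift_snd _ _ _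
  have hjfst : j ≫ g' = pullback.fst (ι ≫ f) g ≫ ι := sq.lift_fst _ _ _
  have hout : IsPullback (j ≫ f') (pullback.fst (ι ≫ f) g) g (ι ≫ f) := by
    rw [hjsnd]
    exact (IsPullback.of_hasPullback (ι ≫ f) g).flip
  have sq' : IsPullback j (pullback.fst (ι ≫ f) g) g' ι :=
    IsPullback.of_right hout hjfst sq.flip
  have hjc : IsClosedImmersion j := MorphismProperty.of_isPullback sq'.flip inferInstance
  have hjr : Set.range j.base = g' ⁻¹' Z := by
    have := Scheme.image_preimage_eq_of_isPullback sq'.flip Set.univ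
    rw [Set.preimage_univ, Set.image_univ, Set.image_univ] at this
    rw [this, range_redι]
  have hp : IsProper (j ≫ f') :=
    (isProperOver_tfae f' _ (hZ.preimage (Scheme.Hom.continuous _))).2.mp h _ j hjc hjr
  rwa [hjsnd] at hp

variable (f : X ⟶ Y) [LocallyOfFiniteType f] (F : EtCoh.Ab X)

set_option backward.isDefEq.respectTransparency.types false in
instance (V : Y.Etale) : LocallyOfFiniteType (prV f V) :=
  MorphismProperty.pullback_fst (P := @LocallyOfFiniteType) V.hom f inferInstance

set_option backward.isDefEq.respectTransparency.types false in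
/-- proper support can be checked on a covering sieve of the base -/
theorem hasProperSupport_of_cover (V : Y.Etale) (s : EtCoh.sect F ((EtCoh.bc f).obj V))
    (R : Sieve V) (hR : R ∈ Y.smallEtaleTopology V)
    (h : ∀ ⦃V' : Y.Etale⦄ (φ : V' ⟶ V), R φ →
      HasProperSupport F ((EtCoh.bc f).obj V') (F.obj.map ((EtCoh.bc f).map φ).op s) (prV f V')) :
    HasProperSupport F ((EtCoh.bc f).obj V) s (prV f V) := by
  set Z := sectSupp F ((EtCoh.bc f).obj V) s with hZdef
  have hZ : IsClosed Z := isClosed_sectSupp F _ s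
  refine ⟨Z, subset_rfl, ?_⟩
  rw [isProperOver_iff _ Z hZ]
  let ι := Σ V' : Y.Etale, {φ : V' ⟶ V // R φ}
  refine isProper_of_family _ (ι := ι) (fun i => i.1.left) (fun i => i.2.1.left) ?_ ?_
  · intro v
    obtain ⟨T, g, hg, hv⟩ := EtGlue.exists_arrow_of_mem R hR v
    exact ⟨⟨T, g, hg⟩, hv⟩
  · rintro ⟨V', φ, hφ⟩
    have h1 := (hasProperSupport_iff F _ (prV f V') _).1 (h φ hφ)
    rw [sectSupp_map] at h1
    exact isProper_pullback_snd_red (prV f V) φ.left ((EtCoh.bc f).map φ).left (prV f V')
      (EtCoh.isPullback_bc_map f φ) Z hZ h1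

/-! ### the subgroup of sections with proper support -/

lemma shriekPred_zero (V : Y.Etale) :
    ShriekPred f F V (0 : EtCoh.sect F ((EtCoh.bc f).obj V)) := by
  intro V' φ
  rw [map_zero]
  exact hasProperSupport_zero F _ _

lemma shriekPred_neg (V : Y.Etale) (s : EtCoh.sect F ((EtCoh.bc f).obj V))
    (hs : ShriekPred f F V s) : ShriekPred f F V (-s) := by
  intro V' φ
  rw [map_neg]
  exact hasProperSupport_neg F _ _ _ (hs V' φ)

lemma shriekPred_add (V : Y.Etale) (s t : EtCoh.sect F ((EtCoh.bc f).obj V))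
    (hs : ShriekPred f F V s) (ht : ShriekPred f F V t) : ShriekPred f F V (s + t) := by
  intro V' φ
  rw [map_add]
  exact hasProperSupport_add F _ _ _ _ (hs V' φ) (ht V' φ)

/-- the subgroup generated by sections with proper support consists of such sections -/
lemma mem_shriekSubgroup_iff (V : Y.Etale) (s : EtCoh.sect F ((EtCoh.bc f).obj V)) :
    s ∈ shriekSubgroup f F V ↔ ShriekPred f F V s := by
  constructor
  · intro hs
    refine AddSubgroup.closure_induction (p := fun x _ => ShriekPred f F V x) ?_ ?_ ?_ ?_ hs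
    · intro x hx; exact hx
    · exact shriekPred_zero f F V
    · intro x y _ _ hx hy; exact shriekPred_add f F V x y hx hy
    · intro x _ hx; exact shriekPred_neg f F V x hx
  · intro hs
    exact AddSubgroup.subset_closure hs

/-- membership in the subgroup of sections with proper support is local on the base -/
theorem mem_shriekSubgroup_of_cover (V : Y.Etale) (s : EtCoh.sect F ((EtCoh.bc f).obj V))
    (R : Sieve V) (hR : R ∈ Y.smallEtaleTopology V)
    (h : ∀ ⦃V' : Y.Etale⦄ (φ : V' ⟶ V), R φ →
      F.obj.map ((EtCoh.bc f).map φ).op s ∈ shriekSubgroup f F V') :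
    s ∈ shriekSubgroup f F V := by
  rw [mem_shriekSubgroup_iff]
  intro V'' ψ
  refine hasProperSupport_of_cover f F V'' _ (R.pullback ψ)
    (Y.smallEtaleTopology.pullback_stable ψ hR) ?_
  intro V' φ hφ
  have h1 := (mem_shriekSubgroup_iff f F V' _).1 (h (φ ≫ ψ) hφ) V' (𝟙 V')
  rw [CategoryTheory.Functor.map_id, op_id, CategoryTheory.Functor.map_id] at h1
  rw [CategoryTheory.Functor.map_comp, op_comp, CategoryTheory.Functor.map_comp] at h1
  exact h1

set_option backward.isDefEq.respectTransparency.types false in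
set_option backward.isDefEq.respectTransparency false in
/-- the presheaf of sections with proper support is a sheaf -/
theorem isSheaf_lowerShriekPre :
    Presheaf.IsSheaf Y.smallEtaleTopology (lowerShriekPre f F) := by
  rw [Presheaf.isSheaf_iff_isSheaf_forget _ _ (forget AddCommGrpCat.{u+1}),
    isSheaf_iff_isSheaf_of_type]
  let Q := EtSupp.shOf ((EtCoh.push f).obj F)
  have hQ := (isSheaf_iff_isSheaf_of_type _ _).1 Q.2
  intro V R hR x hx
  -- the family in the direct image
  let y : Presieve.FamilyOfElements Q.obj R.arrows := fun V' φ hφ => (x φ hφ).1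
  have hy : y.Compatible := by
    intro Y₁ Y₂ Z g₁ g₂ f₁ f₂ h₁ h₂ e
    exact congrArg Subtype.val (hx g₁ g₂ h₁ h₂ e)
  obtain ⟨t, ht, htu⟩ := hQ R hR y hy
  have htmem : (t : EtCoh.sect F ((EtCoh.bc f).obj V)) ∈ shriekSubgroup f F V := by
    refine mem_shriekSubgroup_of_cover f F V t R hR ?_
    intro V' φ hφ
    have := ht φ hφ
    change F.obj.map ((EtCoh.bc f).map φ).op t = (x φ hφ).1 at this
    rw [this]
    exact (x φ hφ).2
  refine ⟨⟨t, htmem⟩, ?_, ?_⟩
  · intro V' φ hφ
    apply Subtype.ext
    exact ht φ hφ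
  · intro t' ht'
    apply Subtype.ext
    refine htu t'.1 ?_
    intro V' φ hφ
    exact congrArg Subtype.val (ht' φ hφ)

end Groth.Agent.Lib.Helper23.Shriek
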