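import Groth.Agent.Lib.Helper23.Shriek.ProperFamily
import Groth.Agent.Lib.Helper23.EtSupp
import Groth.Agent.S0671
import Groth.Prelude.Def_EtShriek2

/-!
# Supports of sections of abelian étale sheaves: algebraic properties and proper supports
-/

set_option autoImplicit false
universe u

namespace Groth.Agent.Lib.Helper23.Shriek

open CategoryTheory CategoryTheory.Limits AlgebraicGeometry Opposite EtShriek
open Groth.Agent.Lib.Helper23 Groth.Agent.Lib.Helper9.ProperOver

variable {X : Scheme.{u}}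

lemma isClosed_sectSupp (F : EtCoh.Ab X) (U : X.Etale) (s : EtCoh.sect F U) :
    IsClosed (sectSupp F U s) := Groth.Agent.S0671.isClosed_sectSupp F U s

/-- the support of a restriction is the preimage of the support -/
lemma sectSupp_map (F : EtCoh.Ab X) {U U' : X.Etale} (φ : U' ⟶ U) (s : EtCoh.sect F U) :
    sectSupp F U' (F.obj.map φ.op s) = φ.left ⁻¹' sectSupp F U s := by
  refine subset_antisymm (EtSupp.sectSupp_map_subset F φ s) ?_
  intro x' hx'
  by_contra hcon
  obtain ⟨W, g, ⟨w, hw⟩, hg⟩ := (EtSupp.not_mem_sectSupp_iff F U' _ x').1 hcon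
  apply hx' W (g ≫ φ) ⟨w, ?_⟩
  · rw [EtSupp.map_comp_apply]; exact hg
  · change φ.left (g.left w) = φ.left x'
    rw [hw]

lemma sectSupp_zero (F : EtCoh.Ab X) (U : X.Etale) :
    sectSupp F U (0 : EtCoh.sect F U) = ∅ := by
  ext x
  simp only [Set.mem_empty_iff_false, iff_false]
  intro hx
  exact hx U (𝟙 U) ⟨x, rfl⟩ (map_zero _)

lemma sectSupp_neg (F : EtCoh.Ab X) (U : X.Etale) (s : EtCoh.sect F U) :
    sectSupp F U (-s) = sectSupp F U s := by
  ext x
  constructor
  · intro hx W g hw h0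
    apply hx W g hw
    rw [map_neg, h0, neg_zero]
  · intro hx W g hw h0
    apply hx W g hw
    rw [map_neg] at h0
    exact neg_eq_zero.mp h0

lemma sectSupp_add_subset (F : EtCoh.Ab X) (U : X.Etale) (s t : EtCoh.sect F U) :
    sectSupp F U (s + t) ⊆ sectSupp F U s ∪ sectSupp F U t := by
  intro x hx
  by_contra hcon
  rw [Set.mem_union, not_or] at hcon
  obtain ⟨W₁, g₁, ⟨w₁, hw₁⟩, hg₁⟩ := (EtSupp.not_mem_sectSupp_iff F U s x).1 hcon.1
  have hw : w₁ ∉ sectSupp F W₁ (F.obj.map g₁.op t) := by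
    intro h
    have := EtSupp.sectSupp_map_subset F g₁ t h
    change g₁.left w₁ ∈ sectSupp F U t at this
    rw [hw₁] at this
    exact hcon.2 this
  obtain ⟨W₂, g₂, ⟨w₂, hw₂⟩, hg₂⟩ := (EtSupp.not_mem_sectSupp_iff F W₁ _ w₁).1 hw
  apply hx W₂ (g₂ ≫ g₁) ⟨w₂, ?_⟩
  · rw [map_add, EtSupp.map_comp_apply, EtSupp.map_comp_apply, hg₁, hg₂, map_zero, add_zero]
  · change g₁.left (g₂.left w₂) = x
    rw [hw₂, hw₁]

/-! ### proper supports -/

section

variable {S : Scheme.{u}}

lemma isProperOver_empty {T : Scheme.{u}} (g : T ⟶ S) [LocallyOfFiniteType g] :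
    ClSub.IsProperOver g (∅ : Set T) := by
  have := isProperOver_iUnion g Empty (fun _ => (∅ : Set T)) (fun i => i.elim)
  rwa [Set.iUnion_of_empty] at this

lemma isProperOver_union {T : Scheme.{u}} (g : T ⟶ S) [LocallyOfFiniteType g] {Z₁ Z₂ : Set T}
    (h₁ : ClSub.IsProperOver g Z₁) (h₂ : ClSub.IsProperOver g Z₂) :
    ClSub.IsProperOver g (Z₁ ∪ Z₂) := by
  have := isProperOver_iUnion g Bool (fun b => cond b Z₁ Z₂) (fun b => by cases b <;> assumption)
  rwa [← Set.union_eq_iUnion] at this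

lemma isProperOver_of_subset {T : Scheme.{u}} (g : T ⟶ S) [LocallyOfFiniteType g] {Z₁ Z₂ : Set T}
    (h : Z₁ ⊆ Z₂) (hZ₁ : IsClosed Z₁) (hZ₂ : ClSub.IsProperOver g Z₂) :
    ClSub.IsProperOver g Z₁ := by
  obtain ⟨hZ₂c, hp⟩ := hZ₂
  rw [isProperOver_iff g _ hZ₁]
  have hle : red Z₂ hZ₂c ≤ red Z₁ hZ₁ := Scheme.IdealSheafData.vanishingIdeal_antimono h
  have hfac : Scheme.IdealSheafData.inclusion hle ≫ (red Z₂ hZ₂c).subschemeι =
      (red Z₁ hZ₁).subschemeι :=
    Scheme.IdealSheafData.inclusion_subschemeι hle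
  have : IsClosedImmersion (Scheme.IdealSheafData.inclusion hle) := by
    have : IsClosedImmersion (Scheme.IdealSheafData.inclusion hle ≫ (red Z₂ hZ₂c).subschemeι) := by
      rw [hfac]; infer_instance
    exact IsClosedImmersion.of_comp (Scheme.IdealSheafData.inclusion hle) (red Z₂ hZ₂c).subschemeι
  rw [← hfac, Category.assoc]
  infer_instance

variable (F : EtCoh.Ab X) (U : X.Etale) (g : U.left ⟶ S)

/-- a section has proper support iff its support is proper -/
lemma hasProperSupport_iff [LocallyOfFiniteType g] (s : EtCoh.sect F U) :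
    HasProperSupport F U s g ↔ ClSub.IsProperOver g (sectSupp F U s) :=
  ⟨fun ⟨_, hZ, hp⟩ => isProperOver_of_subset g hZ (isClosed_sectSupp F U s) hp,
    fun h => ⟨_, subset_rfl, h⟩⟩

lemma hasProperSupport_zero [LocallyOfFiniteType g] :
    HasProperSupport F U (0 : EtCoh.sect F U) g :=
  ⟨∅, by rw [sectSupp_zero], isProperOver_empty g⟩

lemma hasProperSupport_neg (s : EtCoh.sect F U) (h : HasProperSupport F U s g) :
    HasProperSupport F U (-s) g := by
  obtain ⟨Z, hZ, hp⟩ := h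
  exact ⟨Z, by rwa [sectSupp_neg], hp⟩

lemma hasProperSupport_add [LocallyOfFiniteType g] (s t : EtCoh.sect F U)
    (hs : HasProperSupport F U s g) (ht : HasProperSupport F U t g) :
    HasProperSupport F U (s + t) g := by
  obtain ⟨Z₁, hZ₁, hp₁⟩ := hs
  obtain ⟨Z₂, hZ₂, hp₂⟩ := ht
  exact ⟨Z₁ ∪ Z₂, (sectSupp_add_subset F U s t).trans (Set.union_subset_union hZ₁ hZ₂),
    isProperOver_union g hp₁ hp₂⟩

end

end Groth.Agent.Lib.Helper23.Shriek
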